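import Cfsg.Agent.CosetCert.J4LineMem.Defs

/-! Generated: kernel checks. -/

set_option Elab.async false

namespace Cfsg.Agent.CosetCert.J4LineMem

theorem log_okAt12000 : allFrom data.checkLog 12000 1500 = true := by decide +kernel

theorem log_okAt13500 : allFrom data.checkLog 13500 1500 = true := by decide +kernel

theorem log_okAt15000 : allFrom data.checkLog 15000 1500 = true := by decide +kernel

theorem log_okAt16500 : allFrom data.checkLog 16500 1500 = true := by decide +kernel

theorem log_okAt18000 : allFrom data.checkLog 18000 1500 = true := by decide +kernel

theorem log_okAt19500 : allFrom data.checkLog 19500 1500 = true := by decide +kernel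

theorem log_okAt21000 : allFrom data.checkLog 21000 1500 = true := by decide +kernel

theorem log_okAt22500 : allFrom data.checkLog 22500 1500 = true := by decide +kernel

end Cfsg.Agent.CosetCert.J4LineMem
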