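import Cfsg.Agent.CosetCert.J4LineMem.Defs

/-! Generated: kernel checks. -/

set_option Elab.async false

namespace Cfsg.Agent.CosetCert.J4LineMem

theorem log_okAt24000 : allFrom data.checkLog 24000 1500 = true := by decide +kernel

theorem log_okAt25500 : allFrom data.checkLog 25500 1500 = true := by decide +kernel

theorem log_okAt27000 : allFrom data.checkLog 27000 1500 = true := by decide +kernel

theorem log_okAt28500 : allFrom data.checkLog 28500 1500 = true := by decide +kernel

theorem log_okAt30000 : allFrom data.checkLog 30000 1500 = true := by decide +kernel

theorem log_okAt31500 : allFrom data.checkLog 31500 1500 = true := by decide +kernel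

theorem log_okAt33000 : allFrom data.checkLog 33000 1500 = true := by decide +kernel

theorem log_okAt34500 : allFrom data.checkLog 34500 1500 = true := by decide +kernel

end Cfsg.Agent.CosetCert.J4LineMem
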