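import Cfsg.Agent.CosetCert.J4LineMem.Defs

/-! Generated: kernel checks. -/

set_option Elab.async false

namespace Cfsg.Agent.CosetCert.J4LineMem

theorem log_okAt36000 : allFrom data.checkLog 36000 1500 = true := by decide +kernel

theorem log_okAt37500 : allFrom data.checkLog 37500 1500 = true := by decide +kernel

theorem log_okAt39000 : allFrom data.checkLog 39000 1500 = true := by decide +kernel

theorem log_okAt40500 : allFrom data.checkLog 40500 1500 = true := by decide +kernel

theorem log_okAt42000 : allFrom data.checkLog 42000 1500 = true := by decide +kernel

theorem log_okAt43500 : allFrom data.checkLog 43500 1500 = true := by decide +kernel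

theorem log_okAt45000 : allFrom data.checkLog 45000 1500 = true := by decide +kernel

theorem log_okAt46500 : allFrom data.checkLog 46500 1500 = true := by decide +kernel

end Cfsg.Agent.CosetCert.J4LineMem
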