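import Cfsg.Agent.CosetCert.J4LineMem.Defs

/-! Generated: kernel checks. -/

set_option Elab.async false

namespace Cfsg.Agent.CosetCert.J4LineMem

theorem log_okAt48000 : allFrom data.checkLog 48000 1500 = true := by decide +kernel

theorem log_okAt49500 : allFrom data.checkLog 49500 1500 = true := by decide +kernel

theorem log_okAt51000 : allFrom data.checkLog 51000 1500 = true := by decide +kernel

theorem log_okAt52500 : allFrom data.checkLog 52500 1500 = true := by decide +kernel

theorem log_okAt54000 : allFrom data.checkLog 54000 1500 = true := by decide +kernel

theorem log_okAt55500 : allFrom data.checkLog 55500 1500 = true := by decide +kernel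

theorem log_okAt57000 : allFrom data.checkLog 57000 1500 = true := by decide +kernel

theorem log_okAt58500 : allFrom data.checkLog 58500 1500 = true := by decide +kernel

end Cfsg.Agent.CosetCert.J4LineMem
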