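import Cfsg.Agent.CosetCert.J4LineMem.Defs

/-! Generated: kernel checks. -/

set_option Elab.async false

namespace Cfsg.Agent.CosetCert.J4LineMem

theorem log_okAt60000 : allFrom data.checkLog 60000 1500 = true := by decide +kernel

theorem log_okAt61500 : allFrom data.checkLog 61500 1500 = true := by decide +kernel

theorem log_okAt63000 : allFrom data.checkLog 63000 1500 = true := by decide +kernel

theorem log_okAt64500 : allFrom data.checkLog 64500 1500 = true := by decide +kernel

theorem log_okAt66000 : allFrom data.checkLog 66000 1500 = true := by decide +kernel

theorem log_okAt67500 : allFrom data.checkLog 67500 1500 = true := by decide +kernel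

theorem log_okAt69000 : allFrom data.checkLog 69000 1500 = true := by decide +kernel

theorem log_okAt70500 : allFrom data.checkLog 70500 1500 = true := by decide +kernel

end Cfsg.Agent.CosetCert.J4LineMem
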