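import Cfsg.Agent.CosetCert.J4LineMem.Defs

/-! Generated: kernel checks. -/

set_option Elab.async false

namespace Cfsg.Agent.CosetCert.J4LineMem

theorem log_okAt72000 : allFrom data.checkLog 72000 1500 = true := by decide +kernel

theorem log_okAt73500 : allFrom data.checkLog 73500 1500 = true := by decide +kernel

theorem log_okAt75000 : allFrom data.checkLog 75000 292 = true := by decide +kernel

end Cfsg.Agent.CosetCert.J4LineMem
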