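import Cfsg.Agent.CosetCert.J4LineMem.CheckLog0
import Cfsg.Agent.CosetCert.J4LineMem.CheckLog1
import Cfsg.Agent.CosetCert.J4LineMem.CheckLog2
import Cfsg.Agent.CosetCert.J4LineMem.CheckLog3
import Cfsg.Agent.CosetCert.J4LineMem.CheckLog4
import Cfsg.Agent.CosetCert.J4LineMem.CheckLog5
import Cfsg.Agent.CosetCert.J4LineMem.CheckLog6

/-! Generated: kernel checks combined. -/

namespace Cfsg.Agent.CosetCert.J4LineMem

theorem log_ok : ∀ i, i < 75292 → data.checkLog i = true := by
  have h0 : ∀ i, i < 0 → data.checkLog i = true := forall_lt_zero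
  have h1 := forall_lt_step (b := 1500) h0 log_okAt0 rfl
  have h2 := forall_lt_step (b := 3000) h1 log_okAt1500 rfl
  have h3 := forall_lt_step (b := 4500) h2 log_okAt3000 rfl
  have h4 := forall_lt_step (b := 6000) h3 log_okAt4500 rfl
  have h5 := forall_lt_step (b := 7500) h4 log_okAt6000 rfl
  have h6 := forall_lt_step (b := 9000) h5 log_okAt7500 rfl
  have h7 := forall_lt_step (b := 10500) h6 log_okAt9000 rfl
  have h8 := forall_lt_step (b := 12000) h7 log_okAt10500 rfl
  have h9 := forall_lt_step (b := 13500) h8 log_okAt12000 rfl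
  have h10 := forall_lt_step (b := 15000) h9 log_okAt13500 rfl
  have h11 := forall_lt_step (b := 16500) h10 log_okAt15000 rfl
  have h12 := forall_lt_step (b := 18000) h11 log_okAt16500 rfl
  have h13 := forall_lt_step (b := 19500) h12 log_okAt18000 rfl
  have h14 := forall_lt_step (b := 21000) h13 log_okAt19500 rfl
  have h15 := forall_lt_step (b := 22500) h14 log_okAt21000 rfl
  have h16 := forall_lt_step (b := 24000) h15 log_okAt22500 rfl
  have h17 := forall_lt_step (b := 25500) h16 log_okAt24000 rfl
  have h18 := forall_lt_step (b := 27000) h17 log_okAt25500 rfl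
  have h19 := forall_lt_step (b := 28500) h18 log_okAt27000 rfl
  have h20 := forall_lt_step (b := 30000) h19 log_okAt28500 rfl
  have h21 := forall_lt_step (b := 31500) h20 log_okAt30000 rfl
  have h22 := forall_lt_step (b := 33000) h21 log_okAt31500 rfl
  have h23 := forall_lt_step (b := 34500) h22 log_okAt33000 rfl
  have h24 := forall_lt_step (b := 36000) h23 log_okAt34500 rfl
  have h25 := forall_lt_step (b := 37500) h24 log_okAt36000 rfl
  have h26 := forall_lt_step (b := 39000) h25 log_okAt37500 rfl
  have h27 := forall_lt_step (b := 40500) h26 log_okAt39000 rfl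
  have h28 := forall_lt_step (b := 42000) h27 log_okAt40500 rfl
  have h29 := forall_lt_step (b := 43500) h28 log_okAt42000 rfl
  have h30 := forall_lt_step (b := 45000) h29 log_okAt43500 rfl
  have h31 := forall_lt_step (b := 46500) h30 log_okAt45000 rfl
  have h32 := forall_lt_step (b := 48000) h31 log_okAt46500 rfl
  have h33 := forall_lt_step (b := 49500) h32 log_okAt48000 rfl
  have h34 := forall_lt_step (b := 51000) h33 log_okAt49500 rfl
  have h35 := forall_lt_step (b := 52500) h34 log_okAt51000 rfl
  have h36 := forall_lt_step (b := 54000) h35 log_okAt52500 rfl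
  have h37 := forall_lt_step (b := 55500) h36 log_okAt54000 rfl
  have h38 := forall_lt_step (b := 57000) h37 log_okAt55500 rfl
  have h39 := forall_lt_step (b := 58500) h38 log_okAt57000 rfl
  have h40 := forall_lt_step (b := 60000) h39 log_okAt58500 rfl
  have h41 := forall_lt_step (b := 61500) h40 log_okAt60000 rfl
  have h42 := forall_lt_step (b := 63000) h41 log_okAt61500 rfl
  have h43 := forall_lt_step (b := 64500) h42 log_okAt63000 rfl
  have h44 := forall_lt_step (b := 66000) h43 log_okAt64500 rfl
  have h45 := forall_lt_step (b := 67500) h44 log_okAt66000 rfl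
  have h46 := forall_lt_step (b := 69000) h45 log_okAt67500 rfl
  have h47 := forall_lt_step (b := 70500) h46 log_okAt69000 rfl
  have h48 := forall_lt_step (b := 72000) h47 log_okAt70500 rfl
  have h49 := forall_lt_step (b := 73500) h48 log_okAt72000 rfl
  have h50 := forall_lt_step (b := 75000) h49 log_okAt73500 rfl
  have h51 := forall_lt_step (b := 75292) h50 log_okAt75000 rfl
  exact h51

end Cfsg.Agent.CosetCert.J4LineMem
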