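import Cfsg.Agent.CosetCert.J4LineMem.FactsData
import Cfsg.Agent.CosetCert.J4LineMem.JustData
import Cfsg.Agent.CosetCert.CoxExtra
import Cfsg.Agent.CosetCert.Pack

/-! Generated: the certificate. -/

set_option maxRecDepth 100000

namespace Cfsg.Agent.CosetCert.J4LineMem

noncomputable def data : Data where
  K := 10
  n := 0
  M := 30368
  Nf := 75292
  nR := 137
  iv := fun x => if x < 5 then x + 5 else if x < 10 then x - 5 else x
  F := get48 factStore
  J := getVar justStore
  E := fun _ => 0
  L := fun _ => 0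
  P := fun _ => 0
  W := [
    [0, 1, 1, 0, 1, 0, 6, 0, 6, 0, 1, 0, 6, 0, 1, 0, 6, 0, 1, 1, 0, 1, 0, 6, 0, 6, 6, 0, 6, 6, 3, 1, 1, 0, 1, 1, 0, 1, 0, 6, 0, 6, 0, 1, 0, 6, 0, 6, 0, 4, 0, 1, 0, 1, 0, 6, 0, 1, 0, 1, 0, 6, 0, 6, 6, 0, 6, 6, 3, 1, 1, 0, 1, 1, 0, 1, 0, 0, 6, 6, 0, 6, 6, 0, 6, 0, 4, 0, 1, 0, 1, 1, 0, 1, 1, 0],
    [0, 1, 0, 6, 0, 6, 0, 6, 0, 1, 0, 1, 1, 0, 1, 0, 1, 0, 1, 1, 6, 6, 0, 6, 6, 0, 6, 0, 6, 6, 3, 1, 1, 0, 1, 0, 1, 1, 0, 1, 1, 6, 0, 1, 3, 6, 0, 1, 6, 6, 0, 6, 6, 0, 6, 0, 6, 6, 3, 1, 1, 0, 1, 0, 1, 1, 0, 1, 1, 1, 0, 1, 3, 6, 0, 6],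
    [0, 1, 0, 6, 0, 1, 1, 0, 1, 0, 1, 1, 0, 1, 0, 6, 1, 0, 6, 6, 0, 6, 0, 4, 0, 1, 0, 1, 1, 0, 6, 0, 6, 0, 6, 6, 0, 6, 6, 3, 1, 1, 0, 1, 1, 0, 1, 0, 1, 0, 6, 6, 0, 6, 0, 4, 0, 1, 0, 1, 1, 0, 6, 0, 6, 6, 0, 1, 3, 6, 0, 1, 1, 0],
    [0, 6, 0, 6, 6, 0, 6, 0, 6, 6, 3, 1, 1, 0, 1, 0, 1, 1, 0, 1, 0, 0, 6, 0, 6, 0, 6, 0, 6, 6, 0, 6, 0, 4, 0, 1, 0, 1, 1, 0, 1, 0, 1, 0, 1, 0, 0, 6, 0, 6, 6, 0, 6, 0, 6, 0, 6, 0, 4, 0, 1, 0, 1, 0, 1, 0, 1, 1, 0, 1, 0],
    [0, 6, 0, 6, 0, 6, 0, 1, 3, 6, 0, 1, 0, 1, 0, 1, 0, 0, 6, 0, 6, 0, 6, 0, 6, 6, 0, 6, 0, 4, 0, 1, 0, 1, 1, 0, 1, 0, 1, 0, 1, 0, 6, 0, 6, 0, 6, 6, 0, 6, 0, 6, 0, 6, 0, 4, 0, 1, 0, 1, 0, 1, 0, 1, 1, 0, 1, 0, 1],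
    [6, 0, 6, 6, 0, 6, 0, 6, 6, 3, 1, 1, 0, 1, 0, 1, 1, 0, 1, 6, 0, 6, 0, 6, 0, 6, 6, 0, 6, 0, 4, 0, 1, 0, 1, 1, 0, 1, 0, 1, 0, 1, 6, 0, 6, 6, 0, 6, 0, 6, 0, 6, 0, 4, 0, 1, 0, 1, 0, 1, 0, 1, 1, 0, 1],
    [6, 0, 6, 0, 6, 0, 1, 3, 6, 0, 1, 0, 1, 0, 1, 6, 0, 6, 0, 6, 0, 6, 6, 0, 6, 0, 4, 0, 1, 0, 1, 1, 0, 1, 0, 1, 0, 1, 6, 6, 0, 6, 0, 1, 0, 6, 0, 6, 0, 4, 0, 1, 0, 1, 0, 6, 0, 1, 0, 1, 1],
    [1, 0, 6, 6, 0, 6, 0, 6, 6, 3, 1, 1, 0, 1, 0, 1, 1, 0, 6, 0, 6, 6, 0, 6, 0, 6, 6, 0, 6, 6, 0, 4, 0, 1, 1, 0, 1, 1, 0, 1, 0, 1, 1, 0, 6, 0, 1, 0, 6, 0, 6, 0, 4, 0, 1, 0, 1, 0, 6, 0, 1],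
    [6, 6, 0, 6, 6, 0, 6, 0, 6, 6, 3, 1, 1, 0, 1, 0, 1, 1, 0, 1, 1, 0, 1, 0, 6, 0, 6, 0, 4, 0, 1, 0, 1, 0, 6, 0, 6, 6, 0, 6, 6, 0, 6, 0, 6, 0, 6, 0, 4, 0, 1, 0, 1, 0, 1, 0, 1, 1, 0, 1, 1],
    [0, 6, 6, 0, 6, 0, 6, 6, 3, 1, 1, 0, 1, 0, 1, 1, 0, 0, 6, 0, 6, 0, 6, 6, 0, 6, 0, 4, 0, 1, 0, 1, 1, 0, 1, 0, 1, 0, 0, 6, 6, 0, 6, 0, 6, 0, 6, 0, 4, 0, 1, 0, 1, 0, 1, 0, 1, 1, 0],
    [6, 0, 6, 6, 0, 6, 6, 0, 4, 0, 1, 1, 0, 1, 1, 0, 1, 0, 6, 0, 6, 6, 0, 1, 3, 6, 0, 1, 1, 0, 1, 0, 6, 0, 6, 0, 6, 6, 0, 6, 0, 6, 0, 6, 0, 4, 0, 1, 0, 1, 0, 1, 0, 1, 1, 0, 1, 0, 1],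
    [6, 6, 0, 6, 0, 6, 6, 0, 6, 6, 3, 1, 1, 0, 1, 1, 0, 1, 0, 1, 1, 0, 6, 0, 6, 0, 4, 0, 1, 0, 1, 0, 0, 6, 6, 0, 6, 0, 6, 6, 0, 6, 6, 0, 4, 0, 1, 1, 0, 1, 1, 0, 1, 0, 1, 1, 0],
    [6, 0, 6, 0, 6, 6, 0, 6, 6, 3, 1, 1, 0, 1, 1, 0, 1, 0, 1, 1, 0, 6, 0, 6, 0, 4, 0, 1, 0, 1, 0, 6, 6, 6, 0, 6, 6, 0, 6, 0, 6, 0, 6, 0, 4, 0, 1, 0, 1, 0, 1, 0, 1, 1, 0, 1, 1],
    [6, 0, 6, 6, 0, 6, 6, 3, 1, 1, 0, 1, 1, 0, 1, 0, 6, 6, 0, 6, 0, 6, 0, 4, 0, 1, 0, 1, 0, 1, 1, 0, 0, 6, 0, 6, 6, 0, 6, 0, 6, 0, 6, 0, 4, 0, 1, 0, 1, 0, 1, 0, 1, 1, 0, 1, 0],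
    [0, 6, 6, 0, 6, 6, 3, 1, 1, 0, 1, 1, 0, 0, 6, 6, 0, 6, 0, 6, 0, 4, 0, 1, 0, 1, 0, 1, 1, 0, 6, 0, 6, 0, 6, 6, 0, 6, 0, 6, 0, 6, 0, 4, 0, 1, 0, 1, 0, 1, 0, 1, 1, 0, 1, 0, 1],
    [6, 0, 6, 0, 6, 6, 0, 6, 6, 0, 4, 0, 1, 1, 0, 1, 1, 0, 1, 0, 1, 6, 6, 0, 6, 6, 0, 1, 3, 6, 0, 1, 1, 0, 1, 1, 1, 0, 6, 0, 1, 0, 6, 0, 6, 0, 4, 0, 1, 0, 1, 0, 6, 0, 1, 0, 6],
    [0, 6, 6, 0, 6, 6, 0, 4, 0, 1, 1, 0, 1, 1, 0, 0, 6, 0, 6, 6, 0, 1, 3, 6, 0, 1, 1, 0, 1, 0, 0, 6, 0, 6, 6, 0, 6, 0, 6, 0, 6, 0, 4, 0, 1, 0, 1, 0, 1, 0, 1, 1, 0, 1, 0],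
    [0, 6, 0, 6, 6, 0, 6, 6, 3, 1, 1, 0, 1, 1, 0, 1, 0, 6, 6, 0, 6, 0, 6, 0, 4, 0, 1, 0, 1, 0, 1, 1, 6, 0, 6, 6, 0, 6, 0, 6, 0, 6, 0, 4, 0, 1, 0, 1, 0, 1, 0, 1, 1, 0, 1],
    [0, 6, 0, 6, 6, 0, 6, 6, 0, 4, 0, 1, 1, 0, 1, 1, 0, 1, 0, 6, 0, 6, 6, 0, 1, 3, 6, 0, 1, 1, 0, 1, 6, 6, 0, 6, 0, 1, 0, 6, 0, 6, 0, 4, 0, 1, 0, 1, 0, 6, 0, 1, 0, 1, 1],
    [0, 6, 0, 6, 0, 1, 3, 6, 0, 1, 0, 1, 0, 6, 0, 6, 0, 1, 0, 6, 0, 6, 0, 4, 0, 1, 0, 1, 0, 6, 0, 1, 0, 1, 0, 6, 0, 6, 0, 6, 6, 0, 6, 0, 4, 0, 1, 0, 1, 1, 0, 1, 0, 1, 0],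
    [6, 6, 0, 6, 0, 6, 6, 0, 6, 6, 0, 4, 0, 1, 1, 0, 1, 1, 0, 1, 0, 1, 1, 1, 0, 6, 6, 0, 1, 3, 6, 0, 1, 1, 0, 6, 0, 6, 0, 1, 0, 6, 0, 6, 0, 4, 0, 1, 0, 1, 0, 6, 0, 1, 0],
    [6, 6, 0, 6, 0, 6, 6, 3, 1, 1, 0, 1, 0, 1, 1, 6, 6, 0, 6, 0, 6, 0, 6, 0, 4, 0, 1, 0, 1, 0, 1, 0, 1, 1, 6, 0, 6, 0, 6, 6, 0, 6, 0, 4, 0, 1, 0, 1, 1, 0, 1, 0, 1],
    [6, 6, 0, 6, 0, 6, 6, 0, 6, 6, 3, 1, 1, 0, 1, 1, 0, 1, 0, 1, 1, 6, 0, 6, 0, 4, 0, 1, 0, 1, 6, 6, 0, 6, 0, 6, 6, 0, 6, 6, 0, 4, 0, 1, 1, 0, 1, 1, 0, 1, 0, 1, 1],
    [1, 0, 6, 0, 6, 6, 3, 1, 1, 0, 1, 0, 6, 6, 6, 0, 6, 0, 6, 6, 0, 6, 0, 4, 0, 1, 0, 1, 1, 0, 1, 0, 1, 1, 1, 0, 6, 0, 6, 0, 6, 0, 4, 0, 1, 0, 1, 0, 1, 0, 6],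
    [0, 6, 6, 0, 1, 3, 6, 0, 1, 1, 0, 6, 0, 6, 0, 1, 0, 6, 0, 6, 0, 4, 0, 1, 0, 1, 0, 6, 0, 1, 0, 1, 0, 6, 6, 0, 6, 6, 0, 6, 0, 4, 0, 1, 0, 1, 1, 0, 1, 1, 0],
    [1, 0, 6, 6, 0, 4, 0, 1, 1, 0, 6, 6, 6, 0, 6, 6, 0, 1, 3, 6, 0, 1, 1, 0, 1, 1, 6, 6, 0, 6, 6, 0, 6, 0, 6, 0, 6, 0, 4, 0, 1, 0, 1, 0, 1, 0, 1, 1, 0, 1, 1],
    [6, 6, 0, 6, 0, 6, 0, 4, 0, 1, 0, 1, 0, 1, 1, 6, 6, 0, 6, 6, 3, 1, 1, 0, 1, 1, 6, 6, 0, 6, 0, 1, 0, 6, 0, 6, 0, 4, 0, 1, 0, 1, 0, 6, 0, 1, 0, 1, 1],
    [6, 0, 6, 0, 1, 3, 6, 0, 1, 0, 1, 1, 0, 6, 0, 6, 6, 0, 6, 0, 4, 0, 1, 0, 1, 1, 0, 1, 0, 6, 6, 0, 6, 0, 6, 6, 0, 6, 0, 4, 0, 1, 0, 1, 1, 0, 1, 0, 1],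
    [6, 0, 1, 0, 6, 6, 3, 1, 1, 0, 6, 0, 1, 6, 0, 1, 0, 6, 0, 6, 0, 4, 0, 1, 0, 1, 0, 6, 0, 1, 0, 6, 0, 1, 0, 6, 0, 6, 0, 4, 0, 1, 0, 1, 0, 6, 0, 1, 0],
    [6, 6, 0, 4, 0, 1, 1, 1, 0, 6, 6, 0, 6, 0, 6, 6, 3, 1, 1, 0, 1, 0, 1, 1, 0, 6, 6, 6, 0, 6, 0, 6, 6, 0, 6, 6, 0, 4, 0, 1, 1, 0, 1, 1, 0, 1, 0, 1, 1],
    [6, 6, 0, 6, 6, 0, 4, 0, 1, 1, 0, 1, 1, 6, 0, 6, 6, 0, 1, 3, 6, 0, 1, 1, 0, 1, 6, 0, 6, 6, 0, 6, 0, 6, 0, 6, 0, 4, 0, 1, 0, 1, 0, 1, 0, 1, 1, 0, 1],
    [0, 1, 0, 6, 0, 1, 0, 6, 0, 1, 0, 6, 0, 1, 0, 6, 0, 1, 0, 6, 0, 1, 0, 6, 0, 1, 0, 6, 0, 1, 0, 6, 0, 1, 0, 6, 0, 1, 0, 6, 0, 1, 0, 6, 0, 1, 0, 6],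
    [0, 6, 0, 1, 0, 6, 0, 1, 0, 6, 0, 1, 0, 6, 0, 1, 0, 6, 0, 1, 0, 6, 0, 1, 0, 6, 0, 1, 0, 6, 0, 1, 0, 6, 0, 1, 0, 6, 0, 1, 0, 6, 0, 1, 0, 6, 0, 1],
    [0, 6, 0, 1, 0, 1, 3, 6, 0, 6, 0, 1, 0, 6, 0, 6, 0, 6, 0, 4, 0, 1, 0, 1, 0, 1, 0, 6, 6, 0, 6, 0, 6, 0, 6, 0, 4, 0, 1, 0, 1, 0, 1, 0, 1, 1, 0],
    [0, 6, 0, 4, 0, 1, 0, 6, 0, 6, 0, 6, 6, 0, 6, 6, 0, 4, 0, 1, 1, 0, 1, 1, 0, 1, 0, 1, 6, 0, 6, 0, 6, 6, 0, 6, 6, 3, 1, 1, 0, 1, 1, 0, 1, 0, 1],
    [0, 6, 0, 6, 6, 0, 6, 0, 4, 0, 1, 0, 1, 1, 0, 1, 0, 0, 6, 0, 1, 3, 6, 0, 1, 0, 6, 6, 0, 6, 0, 6, 6, 0, 6, 0, 4, 0, 1, 0, 1, 1, 0, 1, 0, 1, 1],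
    [6, 0, 6, 0, 6, 0, 6, 0, 4, 0, 1, 0, 1, 0, 1, 0, 1, 0, 6, 0, 6, 6, 0, 6, 0, 4, 0, 1, 0, 1, 1, 0, 1, 0, 6, 0, 6, 0, 6, 6, 3, 1, 1, 0, 1, 0, 1],
    [0, 6, 6, 0, 4, 0, 1, 1, 0, 1, 0, 6, 6, 0, 1, 3, 6, 0, 1, 1, 0, 6, 0, 6, 6, 0, 6, 0, 6, 6, 0, 6, 6, 0, 4, 0, 1, 1, 0, 1, 1, 0, 1, 0, 1, 1, 0],
    [0, 1, 0, 6, 6, 3, 1, 1, 0, 6, 0, 0, 1, 0, 6, 0, 6, 0, 4, 0, 1, 0, 1, 0, 6, 0, 1, 0, 6, 0, 1, 0, 6, 0, 6, 0, 4, 0, 1, 0, 1, 0, 6, 0, 1, 0, 6],
    [6, 0, 4, 0, 1, 6, 0, 6, 0, 6, 6, 0, 6, 6, 0, 4, 0, 1, 1, 0, 1, 1, 0, 1, 0, 1, 6, 6, 0, 6, 6, 0, 6, 0, 6, 6, 3, 1, 1, 0, 1, 0, 1, 1, 0, 1, 1],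
    [6, 0, 1, 0, 1, 3, 6, 0, 6, 0, 1, 0, 6, 0, 6, 0, 6, 0, 4, 0, 1, 0, 1, 0, 1, 0, 6, 6, 0, 6, 0, 6, 0, 6, 0, 4, 0, 1, 0, 1, 0, 1, 0, 1, 1],
    [1, 0, 6, 0, 4, 0, 1, 0, 6, 0, 6, 0, 6, 6, 0, 6, 6, 3, 1, 1, 0, 1, 1, 0, 1, 0, 0, 6, 0, 6, 6, 0, 6, 6, 0, 4, 0, 1, 1, 0, 1, 1, 0, 1, 0],
    [0, 6, 0, 6, 6, 3, 1, 1, 0, 1, 0, 0, 6, 0, 6, 0, 6, 0, 4, 0, 1, 0, 1, 0, 1, 0, 1, 0, 6, 0, 6, 6, 0, 6, 0, 4, 0, 1, 0, 1, 1, 0, 1, 0, 6],
    [6, 6, 0, 1, 3, 6, 0, 1, 1, 1, 0, 6, 0, 6, 6, 0, 6, 0, 4, 0, 1, 0, 1, 1, 0, 1, 0, 6, 6, 6, 0, 6, 6, 0, 6, 0, 4, 0, 1, 0, 1, 1, 0, 1, 1],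
    [6, 0, 6, 0, 6, 0, 6, 0, 4, 0, 1, 0, 1, 0, 1, 0, 1, 0, 1, 0, 1, 3, 6, 0, 6, 0, 1, 0, 6, 0, 6, 0, 6, 0, 4, 0, 1, 0, 1, 0, 1, 0, 6],
    [1, 0, 6, 6, 3, 1, 1, 0, 6, 1, 0, 6, 0, 6, 0, 4, 0, 1, 0, 1, 0, 6, 1, 0, 6, 0, 1, 0, 6, 0, 6, 0, 4, 0, 1, 0, 1, 0, 6, 0, 1, 0, 6],
    [0, 6, 0, 1, 0, 1, 3, 6, 0, 6, 0, 1, 0, 6, 6, 0, 6, 0, 4, 0, 1, 0, 1, 1, 0, 6, 6, 0, 6, 6, 0, 6, 0, 4, 0, 1, 0, 1, 1, 0, 1, 1, 0],
    [6, 0, 6, 6, 0, 6, 0, 4, 0, 1, 0, 1, 1, 0, 1, 6, 0, 1, 3, 6, 0, 1, 6, 6, 0, 6, 0, 6, 6, 0, 6, 0, 4, 0, 1, 0, 1, 1, 0, 1, 0, 1, 1],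
    [6, 0, 6, 6, 0, 4, 0, 1, 1, 0, 1, 0, 6, 6, 0, 1, 3, 6, 0, 1, 1, 0, 0, 6, 6, 0, 6, 0, 6, 0, 6, 0, 4, 0, 1, 0, 1, 0, 1, 0, 1, 1, 0],
    [0, 1, 0, 6, 0, 4, 0, 1, 0, 6, 0, 6, 0, 6, 6, 0, 6, 6, 3, 1, 1, 0, 1, 1, 0, 1, 6, 0, 6, 6, 0, 6, 6, 0, 4, 0, 1, 1, 0, 1, 1, 0, 1],
    [6, 0, 6, 0, 6, 6, 0, 4, 0, 1, 1, 0, 1, 0, 1, 6, 0, 6, 6, 0, 6, 0, 4, 0, 1, 0, 1, 1, 0, 1, 6, 0, 6, 0, 6, 6, 3, 1, 1, 0, 1, 0, 1],
    [6, 0, 6, 6, 3, 1, 1, 0, 1, 6, 0, 6, 0, 6, 0, 4, 0, 1, 0, 1, 0, 1, 6, 0, 6, 0, 1, 0, 6, 0, 6, 0, 4, 0, 1, 0, 1, 0, 6, 0, 1, 0, 1],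
    [0, 1, 0, 1, 0, 1, 0, 1, 0, 1, 0, 1, 0, 1, 0, 1, 0, 1, 0, 1, 0, 1, 0, 1, 0, 1, 0, 1, 0, 1, 0, 1, 0, 1, 0, 1, 0, 1, 0, 1, 0, 1],
    [6, 0, 1, 0, 1, 3, 6, 0, 6, 0, 1, 0, 6, 6, 0, 6, 0, 4, 0, 1, 0, 1, 1, 0, 6, 6, 0, 6, 6, 0, 6, 0, 4, 0, 1, 0, 1, 1, 0, 1, 1],
    [0, 6, 0, 6, 6, 0, 4, 0, 1, 1, 0, 1, 0, 6, 6, 0, 1, 3, 6, 0, 1, 1, 6, 6, 0, 6, 0, 6, 0, 6, 0, 4, 0, 1, 0, 1, 0, 1, 0, 1, 1],
    [0, 4, 0, 6, 0, 6, 6, 0, 6, 0, 6, 6, 3, 1, 1, 0, 1, 0, 1, 1, 0, 1, 0, 6, 0, 6, 6, 0, 6, 6, 0, 4, 0, 1, 1, 0, 1, 1, 0, 1, 0],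
    [0, 6, 6, 0, 6, 0, 6, 6, 3, 1, 1, 0, 1, 0, 1, 1, 0, 1, 0, 4, 0, 6, 0, 6, 6, 0, 6, 6, 0, 6, 0, 4, 0, 1, 0, 1, 1, 0, 1, 1, 0],
    [6, 6, 0, 6, 0, 6, 6, 3, 1, 1, 0, 1, 0, 1, 1, 0, 1, 0, 4, 0, 6, 0, 6, 6, 0, 6, 6, 0, 6, 0, 4, 0, 1, 0, 1, 1, 0, 1, 1],
    [0, 1, 0, 6, 0, 4, 0, 1, 0, 6, 0, 0, 6, 6, 0, 6, 6, 0, 4, 0, 1, 1, 0, 1, 1, 0, 0, 6, 6, 0, 6, 6, 3, 1, 1, 0, 1, 1, 0],
    [4, 0, 6, 0, 6, 6, 0, 6, 0, 6, 6, 3, 1, 1, 0, 1, 0, 1, 1, 0, 1, 0, 6, 0, 6, 6, 0, 6, 6, 0, 4, 0, 1, 1, 0, 1, 1, 0, 1],
    [6, 0, 6, 6, 0, 6, 0, 4, 0, 1, 0, 1, 1, 0, 1, 0, 1, 0, 1, 3, 6, 0, 6, 0, 1, 0, 6, 6, 0, 6, 0, 4, 0, 1, 0, 1, 1, 0, 6],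
    [0, 3, 0, 0, 1, 0, 6, 0, 4, 0, 1, 0, 6, 0, 0, 6, 0, 6, 0, 6, 0, 6, 6, 0, 6, 0, 4, 0, 1, 0, 1, 1, 0, 1, 0, 1, 0, 1, 0],
    [0, 6, 0, 6, 6, 0, 6, 0, 4, 0, 1, 0, 1, 1, 0, 1, 0, 1, 0, 1, 3, 6, 0, 6, 1, 0, 6, 6, 0, 6, 0, 4, 0, 1, 0, 1, 1, 0, 6],
    [6, 0, 6, 0, 6, 6, 0, 4, 0, 1, 1, 0, 1, 0, 1, 1, 0, 1, 3, 6, 0, 6, 1, 0, 6, 0, 6, 0, 6, 0, 4, 0, 1, 0, 1, 0, 1, 0, 6],
    [6, 0, 1, 0, 4, 0, 6, 0, 1, 1, 0, 6, 0, 6, 6, 3, 1, 1, 0, 1, 0, 6, 1, 0, 6, 6, 0, 6, 0, 4, 0, 1, 0, 1, 1, 0, 6],
    [0, 1, 3, 6, 0, 0, 6, 6, 0, 6, 0, 4, 0, 1, 0, 1, 1, 0, 6, 0, 6, 0, 6, 6, 0, 6, 0, 4, 0, 1, 0, 1, 1, 0, 1, 0, 1],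
    [0, 6, 6, 3, 1, 1, 0, 0, 6, 0, 6, 0, 4, 0, 1, 0, 1, 0, 0, 6, 0, 1, 0, 6, 0, 6, 0, 4, 0, 1, 0, 1, 0, 6, 0, 1, 0],
    [0, 6, 0, 6, 6, 3, 1, 1, 0, 1, 0, 0, 6, 6, 0, 6, 0, 4, 0, 1, 0, 1, 1, 0, 0, 6, 0, 6, 6, 0, 4, 0, 1, 1, 0, 1, 0],
    [1, 3, 6, 6, 6, 0, 6, 0, 4, 0, 1, 0, 1, 1, 0, 6, 0, 6, 0, 6, 6, 0, 6, 0, 4, 0, 1, 0, 1, 1, 0, 1, 0, 1, 0],
    [2, 0, 6, 0, 6, 6, 0, 6, 0, 6, 6, 3, 1, 1, 0, 1, 0, 1, 1, 0, 1, 0, 0, 6, 6, 0, 6, 6, 3, 1, 1, 0, 1, 1, 0],
    [2, 6, 0, 1, 0, 6, 6, 3, 1, 1, 0, 6, 0, 1, 6, 6, 0, 6, 0, 6, 6, 0, 6, 6, 3, 1, 1, 0, 1, 1, 0, 1, 0, 1, 1],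
    [6, 0, 6, 0, 6, 6, 0, 4, 0, 1, 1, 0, 1, 0, 1, 6, 0, 1, 0, 4, 0, 6, 0, 1, 0, 6, 0, 1, 3, 6, 0, 1, 0],
    [1, 0, 6, 0, 4, 0, 1, 0, 6, 6, 6, 0, 6, 6, 0, 4, 0, 1, 1, 0, 1, 1, 6, 6, 0, 6, 6, 3, 1, 1, 0, 1, 1],
    [2, 0, 6, 0, 6, 0, 6, 0, 1, 3, 6, 0, 1, 0, 1, 0, 1, 0, 6, 0, 6, 6, 0, 6, 6, 3, 1, 1, 0, 1, 1, 0, 1],
    [6, 0, 6, 0, 6, 0, 6, 0, 4, 0, 1, 0, 1, 0, 1, 0, 1, 6, 0, 1, 0, 4, 0, 6, 0, 1, 6, 0, 1, 3, 6, 0, 1],
    [2, 0, 6, 0, 6, 6, 0, 6, 6, 3, 1, 1, 0, 1, 1, 0, 1, 0, 6, 0, 6, 0, 6, 0, 1, 3, 6, 0, 1, 0, 1, 0, 1],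
    [3, 1, 0, 6, 0, 4, 0, 1, 0, 6, 6, 0, 6, 0, 6, 0, 6, 6, 0, 6, 0, 4, 0, 1, 0, 1, 1, 0, 1, 0, 1, 0, 1],
    [4, 0, 6, 0, 6, 0, 6, 0, 1, 3, 6, 0, 1, 0, 1, 0, 1, 0, 0, 6, 6, 0, 6, 6, 0, 4, 0, 1, 1, 0, 1, 1, 0],
    [0, 4, 0, 6, 6, 0, 6, 6, 0, 4, 0, 1, 1, 0, 1, 1, 6, 0, 6, 0, 6, 0, 1, 3, 6, 0, 1, 0, 1, 0, 1],
    [2, 6, 6, 0, 6, 6, 0, 6, 0, 6, 6, 3, 1, 1, 0, 1, 0, 1, 1, 0, 1, 1, 1, 0, 6, 6, 3, 1, 1, 0, 6],
    [2, 6, 0, 6, 6, 0, 6, 0, 6, 6, 3, 1, 1, 0, 1, 0, 1, 1, 0, 1, 6, 6, 0, 6, 6, 3, 1, 1, 0, 1, 1],
    [6, 6, 3, 1, 1, 6, 0, 6, 0, 4, 0, 1, 0, 1, 6, 0, 1, 0, 6, 0, 6, 0, 4, 0, 1, 0, 1, 0, 6, 0, 1],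
    [2, 0, 1, 0, 6, 6, 3, 1, 1, 0, 6, 0, 6, 0, 6, 0, 6, 6, 0, 6, 6, 3, 1, 1, 0, 1, 1, 0, 1, 0, 1],
    [6, 0, 6, 6, 3, 1, 1, 0, 1, 6, 6, 0, 6, 0, 4, 0, 1, 0, 1, 1, 6, 0, 6, 6, 0, 4, 0, 1, 1, 0, 1],
    [6, 0, 6, 0, 1, 3, 6, 0, 1, 0, 1, 0, 1, 0, 4, 0, 6, 0, 0, 6, 0, 6, 6, 0, 4, 0, 1, 1, 0, 1, 0],
    [0, 6, 0, 6, 0, 1, 3, 6, 0, 1, 0, 1, 0, 1, 0, 4, 0, 6, 6, 0, 6, 6, 0, 4, 0, 1, 1, 0, 1],
    [6, 0, 1, 0, 6, 6, 3, 1, 1, 0, 6, 0, 1, 6, 6, 0, 4, 0, 1, 1, 0, 6, 6, 0, 4, 0, 1, 1, 0],
    [2, 0, 6, 0, 6, 0, 1, 3, 6, 0, 1, 0, 1, 0, 0, 6, 0, 1, 0, 1, 3, 6, 0, 6, 0, 1, 0],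
    [2, 0, 6, 0, 6, 6, 3, 1, 1, 0, 1, 0, 6, 6, 0, 6, 0, 6, 6, 3, 1, 1, 0, 1, 0, 1, 1],
    [2, 6, 0, 6, 6, 3, 1, 1, 0, 1, 0, 6, 6, 0, 6, 0, 6, 6, 3, 1, 1, 0, 1, 0, 1, 1, 0],
    [2, 1, 0, 6, 0, 6, 6, 3, 1, 1, 0, 1, 0, 6, 6, 0, 6, 0, 6, 6, 3, 1, 1, 0, 1, 0, 1],
    [0, 1, 3, 6, 0, 0, 1, 0, 4, 0, 6, 0, 0, 6, 0, 6, 0, 6, 0, 4, 0, 1, 0, 1, 0, 1, 0],
    [6, 0, 4, 0, 1, 0, 1, 0, 6, 6, 3, 1, 1, 0, 6, 0, 1, 0, 6, 6, 0, 4, 0, 1, 1, 0, 6],
    [2, 0, 6, 6, 3, 1, 1, 0, 1, 0, 6, 6, 0, 6, 0, 6, 6, 3, 1, 1, 0, 1, 0, 1, 1, 0, 6],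
    [0, 6, 0, 4, 0, 1, 0, 1, 0, 6, 6, 3, 1, 1, 0, 6, 1, 0, 6, 6, 0, 4, 0, 1, 1, 0, 6],
    [0, 6, 6, 3, 1, 1, 0, 6, 0, 6, 0, 4, 0, 1, 0, 1, 0, 6, 6, 0, 4, 0, 1, 1, 0],
    [0, 6, 0, 4, 0, 1, 0, 6, 3, 1, 0, 1, 0, 6, 0, 6, 0, 4, 0, 1, 0, 1, 0, 6, 0],
    [0, 6, 6, 0, 6, 0, 1, 0, 6, 6, 0, 4, 0, 1, 1, 0, 6, 0, 1, 0, 1, 1, 0, 4],
    [0, 6, 6, 0, 1, 0, 6, 6, 0, 1, 0, 4, 0, 6, 0, 1, 1, 0, 6, 0, 1, 1, 0, 4],
    [2, 6, 0, 6, 0, 1, 3, 6, 0, 1, 0, 1, 6, 0, 1, 0, 1, 3, 6, 0, 6, 0, 1],
    [6, 6, 3, 1, 1, 6, 6, 0, 4, 0, 1, 1, 0, 6, 0, 6, 0, 4, 0, 1, 0, 1, 0],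
    [6, 0, 1, 0, 6, 6, 0, 6, 0, 1, 3, 6, 0, 1, 0, 1, 1, 0, 6, 0, 1, 3],
    [6, 0, 6, 0, 6, 6, 0, 1, 0, 1, 3, 6, 0, 6, 0, 1, 1, 0, 1, 0, 1, 3],
    [6, 0, 4, 0, 1, 6, 3, 1, 1, 0, 6, 0, 6, 0, 4, 0, 1, 0, 1, 0, 6],
    [4, 0, 3, 0, 0, 6, 6, 0, 6, 0, 6, 0, 4, 0, 1, 0, 1, 0, 1, 1, 0],
    [1, 3, 6, 1, 0, 4, 0, 6, 6, 0, 6, 0, 6, 0, 4, 0, 1, 0, 1, 0, 1],
    [0, 6, 0, 1, 0, 6, 0, 1, 0, 4, 0, 6, 0, 1, 0, 6, 0, 1, 0, 4],
    [2, 0, 3, 0, 0, 6, 0, 6, 6, 0, 1, 3, 6, 0, 1, 1, 0, 1, 0],
    [2, 0, 1, 0, 1, 3, 6, 0, 6, 0, 0, 6, 0, 1, 3, 6, 0, 1, 0],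
    [2, 6, 6, 3, 1, 1, 1, 0, 6, 6, 0, 1, 3, 6, 0, 1, 1, 0, 6],
    [0, 4, 0, 3, 6, 6, 0, 6, 0, 6, 0, 4, 0, 1, 0, 1, 0, 1, 1],
    [2, 6, 3, 1, 6, 6, 0, 6, 6, 0, 1, 3, 6, 0, 1, 1, 0, 1, 1],
    [2, 1, 3, 6, 0, 6, 6, 0, 1, 3, 6, 0, 1, 1, 0],
    [2, 0, 1, 3, 6, 0, 6, 6, 0, 1, 3, 6, 0, 1, 1],
    [2, 3, 6, 0, 6, 6, 0, 1, 3, 6, 0, 1, 1, 0, 1],
    [2, 6, 0, 1, 3, 6, 0, 1, 1, 0, 1, 3, 6, 0, 6],
    [0, 6, 0, 3, 0, 1, 0, 3],
    [1, 0, 6, 3, 1, 0, 6, 3],
    [6, 4, 1, 4],
    [0, 2, 0, 2],
    [6, 2, 1, 2],
    [1, 1, 1, 1],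
    [4, 4],
    [3, 3],
    [2, 2],
    [0, 0],
    [],
    [0, 5],
    [1, 6],
    [2, 7],
    [3, 8],
    [4, 9],
    [5, 0],
    [6, 1],
    [7, 2],
    [8, 3],
    [9, 4],
    [0],
    [1]]
  PW := fun k => Nat.land (Nat.shiftRight 0x200000000000000000000000000000000000000000000000000000000000000000000000000000000000000000000000000000000000000000000001000000000000000000000000000000000000000000000000000000000000000000000000000000000000000000000000000000000000000000000aa00000000000000000000000000000000000000000000000000000000000000000000000000000000000000000000000000000000000000000000089000000000000000000000000000000000000000000000000000000000000000000000000000000000000000000000000000000000000000000000680000000000000000000000000000000000000000000000000000000000000000000000000000000000000000000000000000000000000000000004700000000000000000000000000000000000000000000000000000000000000000000000000000000000000000000000000000000000000000000026000000000000000000000000000000000000000000000000000000000000000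000000000000000000000000000000000000000000000000000001450000000000000000000000000000000000000000000000000000000000000000000000000000000000000000000000000000000000000000000012400000000000000000000000000000000000000000000000000000000000000000000000000000000000000000000000000000000000000000000103000000000000000000000000000000000000000000000000000000000000000000000000000000000000000000000000000000000000000000000e2000000000000000000000000000000000000000000000000000000000000000000000000000000000000000000000000000000000000000000000c100000000000000000000000000000000000000000000000000000000000000000000000000000000000000000000000000000000000000000000000000000000000000000000000000000000000000000000000000000000000000000000000000000000000000000000000000000000000000000000210000000000000000000000000000000000000000000000000000000000000000000000000000000000000000000000000000000000000000000006300000000000000000000000000000000000000000000000000000000000000000000000000000000000000000000000000000000000000000000084000000000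000000000000000000000000000000000000000000000000000000000000000000000000000000000000000000000000000000000000a5000000000000000000000000000000000000000000000000000000000000000000000000000000000000000000000000000000000000000000108420000000000000000000000000000000000000000000000000000000000000000000000000000000000000000000000000000000000000000001886700000000000000000000000000000000000000000000000000000000000000000000000000000000000000000000000000000000000000000018461000000000000000000000000000000000000000000000000000000000000000000000000000000000000000000000000000000000000000000288a7000000000000000000000000000000000000000000000000000000000000000000000000000000000000000000000000000000000000021c2221c22000000000000000000000000000000000000000000000000000000000000000000000000000000000000000000000000000000000000020441204e100000000000000000000000000000000000000000000000000000000000000000000000000000000000000000000000000001c2720822104e4104e300000000000000000000000000000000000000000000000000000000000000000000000000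000000000000000000000000000822104e4104e709c83000000000000000000000000000000000000000000000000000000000000000000000000000000000000000000000000000008413904139c27208230000000000000000000000000000000000000000000000000000000000000000000000000000000000000000000000000000044209c8209ce1390430000000000000000000000000000000000000000000000000000000000000000000000000000000000000000000000008411082720827384e7110e300000000000000000000000000000000000000000000000000000000000000000000000000000000000000000000000084110441284e1384e7204a1000000000000000000000000000000000000000000000000000000000000000000000000000000000000000000000001c22104e4104e70884221ce3000000000000000000000000000000000000000000000000000000000000000000000000000000000000000000000000441390413842709c82088230000000000000000000000000000000000000000000000000000000000000000000000000000000000000000000000004411082720827384e10902300000000000000000000000000000000000000000000000000000000000000000000000000000000000000000000002844138441384a1104e1104e100000000000000000000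00000000000000000000000000000000000000000000000000000000000000000000000002088220942709c27384a111c820000000000000000000000000000000000000000000000000000000000000000000000000000000000000000000001108220882509c2709ce1090250000000000000000000000000000000000000000000000000000000000000000000000000000000000000000000007088220942709c22110e209427000000000000000000000000000000000000000000000000000000000000000000000000000000000000000000008208822104e139041104e709c27000000000000000000000000000000000000000000000000000000000000000000000000000000000000000000008209c221044139041384e7088270000000000000000000000000000000000000000000000000000000000000000000000000000000000000000000441104a1384e11082509ce2110e7000000000000000000000000000000000000000000000000000000000000000000000000000000000000000000082709c82088271044139041384e3000000000000000000000000000000000000000000000000000000000000000000000000000000000000000002844209c22104e12844139c2209ce10000000000000000000000000000000000000000000000000000000000000000000000000000000000000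0000284420882708841284e70882709ce10000000000000000000000000000000000000000000000000000000000000000000000000000000000000000138441104a1384e11044438441284e1000000000000000000000000000000000000000000000000000000000000000000000000000000000000000011082509ce110441284e13844221ce100000000000000000000000000000000000000000000000000000000000000000000000000000000000001c22104a139c223844221ce110441284e100000000000000000000000000000000000000000000000000000000000000000000000000000000000001c221044110887384e139c220884439c2300000000000000000000000000000000000000000000000000000000000000000000000000000000000001c22104a139c2209c22110e708822094270000000000000000000000000000000000000000000000000000000000000000000000000000000000000044110441284e1384e109c250882139041000000000000000000000000000000000000000000000000000000000000000000000000000000000000008220884439c2709ce11044221ce1384430000000000000000000000000000000000000000000000000000000000000000000000000000000000000044208822110e709c273844110887384e30000000000000000000000000000000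00000000000000000000000000000000000000000000000000000008411044221ce1384e708822110e709c2300000000000000000000000000000000000000000000000000000000000000000000000000000000000000441384e41044138422088272082709c230000000000000000000000000000000000000000000000000000000000000000000000000000000000011082509ce11082509ce209c22110e70882700000000000000000000000000000000000000000000000000000000000000000000000000000000000208841284e709ce1284411044139041384e10000000000000000000000000000000000000000000000000000000000000000000000000000000004411082509ce138427094220882209c8209c27000000000000000000000000000000000000000000000000000000000000000000000000000000000822104a139c27108220942709ce20884439c270000000000000000000000000000000000000000000000000000000000000000000000000000000008220884110887384e709c2709c22110e708823000000000000000000000000000000000000000000000000000000000000000000000000000000000827088220942709c2209c41104a1384e2110e700000000000000000000000000000000000000000000000000000000000000000000000000000000084110887384e710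44208822110e709c27384e3000000000000000000000000000000000000000000000000000000000000000000000000000000001c22110e708842088411044221ce1384e709ce3000000000000000000000000000000000000000000000000000000000000000000000000000000000822088272082709c2710822104a139c27384a1000000000000000000000000000000000000000000000000000000000000000000000000000000110822104a139c27384220882209c8209c2709c2500000000000000000000000000000000000000000000000000000000000000000000000000000020882208841104a1384e709c2709ce1104a13844400000000000000000000000000000000000000000000000000000000000000000000000000000020882209c8209c2709c220884110887384e709c23000000000000000000000000000000000000000000000000000000000000000000000000000000209c8209c41384a1104e2088220882509c2709c2700000000000000000000000000000000000000000000000000000000000000000000000000000020884110887384e709c220882209c8209c2709c2300000000000000000000000000000000000000000000000000000000000000000000000000000021044221ce139c4208841284e709ce70882509c22000000000000000000000000000000000000000000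0000000000000000000000000000000000001104e4104e1104e1284413882208841284e709c270000000000000000000000000000000000000000000000000000000000000000000000000000841104420884439c27384e139c413844221ce1104e300000000000000000000000000000000000000000000000000000000000000000000000000004420884439c2738422088411044221ce1384e709c230000000000000000000000000000000000000000000000000000000000000000000000000000441104420882509c27384e1384420882509c2739c82000000000000000000000000000000000000000000000000000000000000000000000000011044209427384e108841104a1384e70844110887384e100000000000000000000000000000000000000000000000000000000000000000000000001104e110441284e138441384220882509c270844221ce1000000000000000000000000000000000000000000000000000000000000000000000000020882210441284e139c2709c2210441284e139c21390410000000000000000000000000000000000000000000000000000000000000000000000000708841104a1384e7088e11044221ce13844209c250882700000000000000000000000000000000000000000000000000000000000000000000001c22088220942709c27088e13904110822088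41284e709c2700000000000000000000000000000000000000000000000000000000000000000000001c2210441284e139c22384e410441104420882509c27384e10000000000000000000000000000000000000000000000000000000000000000000000044110441108220942709ce1384e1384270882509c220848100000000000000000000000000000000000000000000000000000000000000000000001c2210441284e139c2209c27208220882210441284e139c27000000000000000000000000000000000000000000000000000000000000000000000008221044209427384e709c22088411044221ce1384e709c25000000000000000000000000000000000000000000000000000000000000000000000004420884439c27384221044209427384e7084e1104a13844100000000000000000000000000000000000000000000000000000000000000000000000841108220942709ce139c2709422088411044221ce1384e70000000000000000000000000000000000000000000000000000000000000000000011082210441284e139c27384e128441108220884439c2709ce10000000000000000000000000000000000000000000000000000000000000000000011044208841284e709ce138441108220884439c2709ce1384a100000000000000000000000000000000000000000000000000000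00000000000000021044110441284e1384e139c4209c8209ce11044209427384e1000000000000000000000000000000000000000000000000000000000000000000002104420882509c27384e708841104a1384e70882709c82088270000000000000000000000000000000000000000000000000000000000000000000411044110441104411044110441104411044110441104411044100000000000000000000000000000000000000000000000000000000000000000082209c220882509c270882709c4110441284e1384e20884439c270000000000000000000000000000000000000000000000000000000000000000008220884439c2709c41108220942709ce13882208841284e709c270000000000000000000000000000000000000000000000000000000000000000008221044209427384e709c4110822110e709ce1384e1104a138441000000000000000000000000000000000000000000000000000000000000000000442088220882509c2709c2738422104e4104e708822104a139c27000000000000000000000000000000000000000000000000000000000000000000841104420882509c27384e139c41390413882210441284e139c2700000000000000000000000000000000000000000000000000000000000000000044208841104a1384e709ce1108220942709ce1104e139041104e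1000000000000000000000000000000000000000000000000000000000000000001c2209c220882509c2708827088e110441284e1384470884439c22000000000000000000000000000000000000000000000000000000000000000001c22088220942709c270882709c8208822088220882509c2709c270000000000000000000000000000000000000000000000000000000000000002104420882509c27384e738441108220942709ce138442104e4104e700000000000000000000000000000000000000000000000000000000000000070882210441284e139c2708822088220942709c270844110887384e100000000000000000000000000000000000000000000000000000000000000011044208841284e709ce1384220884110887384e709c270882509c2200000000000000000000000000000000000000000000000000000000000000021044110441284e1384e139c22088220942709c270882709c82088270000000000000000000000000000000000000000000000000000000000000841108220884439c2709ce139c411044208841284e709ce1384e2094270000000000000000000000000000000000000000000000000000000000001c2209c220882509c270882708827088220942709c22084e110887384410000000000000000000000000000000000000000000000000000000000000442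088221044209427384e709c27384e11082720827384411082509ce100000000000000000000000000000000000000000000000000000000000008220884439c2709c2208841104a1384e709c22088220882509c2709c270000000000000000000000000000000000000000000000000000000000000841104420882509c27384e139c2209c8209c21104420882509c27384e100000000000000000000000000000000000000000000000000000000000008220884110887384e709c271044110822104a139c27384e138441284e10000000000000000000000000000000000000000000000000000000000000442088220882509c2709c273844110441284e1384e1104e139041104e100000000000000000000000000000000000000000000000000000000000104e1104e1104e1104e1104e1104e1104e1104e1104e1104e1104e1104e100000000000000000000000000000000000000000000000000000000000384413844138441384413844138441384413844138441384413844138441000000000000000000000000000000000000000000000000000000000020884110441104a1384e1384e709c411082720827384e21044209427384e7000000000000000000000000000000000000000000000000000000000021044110822104a139c27384e139ce1108220884439c2709ce110841284e70000000000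0000000000000000000000000000000000000000000000001104e110441284e1384413844138441104a1384e1104e209c22110e708827000000000000000000000000000000000000000000000000000000000020882210441284e139c2709ce1104420882509c27384e11082209c8209c27000000000000000000000000000000000000000000000000000000000021044138441104a1384e1104e139c420884439c273884110441284e1384e70000000000000000000000000000000000000000000000000000000084110822088220942709c2709ce139c42088413904139c2739c22104a139c220000000000000000000000000000000000000000000000000000000044208841104a1384e709ce11044138441104a1384e1104e13844209c8209ce100000000000000000000000000000000000000000000000000000001c22088220942709c27088420882210441284e139c2709ce708822110e709c220000000000000000000000000000000000000000000000000000021044110822104a139c27384e139c41104a1384e21044110822110e709ce1384e70000000000000000000000000000000000000000000000000000020882210441284e139c2709c42088220882509c2709c27388411044221ce1384e700000000000000000000000000000000000000000000000000044138441104a1384e1104e13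844209c8209ce1108411044208841284e709ce1384e7000000000000000000000000000000000000000000000000000441104420882509c27384e138441104e110441284e138441384e11044139041384e1000000000000000000000000000000000000000000000000000841104e110441284e138441384e71044209c8209ce13844110822104a139c27384e10000000000000000000000000000000000000000000000000008221044110441284e1384e139c27108220882509c2709ce1104420884439c27384e100000000000000000000000000000000000000000000000000044110822088220942709c2709ce138422088413904139c270844208841284e709ce1000000000000000000000000000000000000000000000000708827088220942709c2209c2210822104e4104e709ce2088221044209427384e709c270000000000000000000000000000000000000000000000002088221044110441284e1384e139c2709c2210441104a1384e139c2110822110e709ce1000000000000000000000000000000000000000000000000110442088220882509c2709c27384e10884110441284e1384e7088221044221ce139c27000000000000000000000000000000000000000000000000210442088220882509c2709c27384e738441104a1384e1108220884110887384e709c27000000000000000000000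000000000000000000000000000110822088411082509ce139c2709ce1088220942709c221044110822110e709ce1384e700000000000000000000000000000000000000000000008220884110441104a1384e1384e709c2708822104e4104e709c22088411082509ce139c270000000000000000000000000000000000000000000000442088220882509c2709c27384220882210441284e139c2709c21108220884439c2709ce10000000000000000000000000000000000000000000210442088220882509c2709c27384e709c220882509c27088221044208822110e709c27384e70000000000000000000000000000000000000000000209c220882509c2708827088411044208841284e709ce1384e709c221044110887384e139c22000000000000000000000000000000000000000000021044138441104a1384e1104e139c4110441108220942709ce1384e138822088272082709c270000000000000000000000000000000000000020884110441104a1384e1384e709c4110441108220942709ce1384e1388221044110887384e139c270000000000000000000000000000000002088221044110441284e1384e139c2709c220882208841104a1384e709c2709c2110441104e4104e1384e1000000000000000000000000000000044110822088220942709c2709ce1384220882208841104a1384e709c2709c211044208822110e709c27384e100000000000000000000000000022104e4104e709c2210441284e139c22088221044221ce139c2709c2210441284e139c2238441108220884138441000000000000000000000000384e4104421044208822110e709c27384e7104e4104e21044208822110e709c27384e7108220882210441384e1384418841108220942709ce139c21104420884439c27384e11044138441104a1384e1104e13844110822110e709ce13844110827088270882709c2208841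 (Nat.mul 476 k)) 0xfffffffffffffffffffffffffffffffffffffffffffffffffffffffffffffffffffffffffffffffffffffffffffffffffffffffffffffffffffffff
  powers := [
    ([0, 1, 1, 0, 1, 0, 6, 0, 6, 0, 1, 0, 6, 0, 1, 0, 6, 0, 1, 1, 0, 1, 0, 6, 0, 6, 6, 0, 6, 6, 3, 1, 1, 0, 1, 1, 0, 1, 0, 6, 0, 6, 0, 1, 0, 6, 0, 6, 0, 4, 0, 1, 0, 1, 0, 6, 0, 1, 0, 1, 0, 6, 0, 6, 6, 0, 6, 6, 3, 1, 1, 0, 1, 1, 0, 1, 0, 0, 6, 6, 0, 6, 6, 0, 6, 0, 4, 0, 1, 0, 1, 1, 0, 1, 1, 0], 1),
    ([0, 1, 0, 6, 0, 6, 0, 6, 0, 1, 0, 1, 1, 0, 1, 0, 1, 0, 1, 1, 6, 6, 0, 6, 6, 0, 6, 0, 6, 6, 3, 1, 1, 0, 1, 0, 1, 1, 0, 1, 1, 6, 0, 1, 3, 6, 0, 1, 6, 6, 0, 6, 6, 0, 6, 0, 6, 6, 3, 1, 1, 0, 1, 0, 1, 1, 0, 1, 1, 1, 0, 1, 3, 6, 0, 6], 1),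
    ([0, 1, 0, 6, 0, 1, 1, 0, 1, 0, 1, 1, 0, 1, 0, 6, 1, 0, 6, 6, 0, 6, 0, 4, 0, 1, 0, 1, 1, 0, 6, 0, 6, 0, 6, 6, 0, 6, 6, 3, 1, 1, 0, 1, 1, 0, 1, 0, 1, 0, 6, 6, 0, 6, 0, 4, 0, 1, 0, 1, 1, 0, 6, 0, 6, 6, 0, 1, 3, 6, 0, 1, 1, 0], 1),
    ([0, 6, 0, 6, 6, 0, 6, 0, 6, 6, 3, 1, 1, 0, 1, 0, 1, 1, 0, 1, 0, 0, 6, 0, 6, 0, 6, 0, 6, 6, 0, 6, 0, 4, 0, 1, 0, 1, 1, 0, 1, 0, 1, 0, 1, 0, 0, 6, 0, 6, 6, 0, 6, 0, 6, 0, 6, 0, 4, 0, 1, 0, 1, 0, 1, 0, 1, 1, 0, 1, 0], 1),
    ([0, 6, 0, 6, 0, 6, 0, 1, 3, 6, 0, 1, 0, 1, 0, 1, 0, 0, 6, 0, 6, 0, 6, 0, 6, 6, 0, 6, 0, 4, 0, 1, 0, 1, 1, 0, 1, 0, 1, 0, 1, 0, 6, 0, 6, 0, 6, 6, 0, 6, 0, 6, 0, 6, 0, 4, 0, 1, 0, 1, 0, 1, 0, 1, 1, 0, 1, 0, 1], 1),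
    ([6, 0, 6, 6, 0, 6, 0, 6, 6, 3, 1, 1, 0, 1, 0, 1, 1, 0, 1, 6, 0, 6, 0, 6, 0, 6, 6, 0, 6, 0, 4, 0, 1, 0, 1, 1, 0, 1, 0, 1, 0, 1, 6, 0, 6, 6, 0, 6, 0, 6, 0, 6, 0, 4, 0, 1, 0, 1, 0, 1, 0, 1, 1, 0, 1], 1),
    ([6, 0, 6, 0, 6, 0, 1, 3, 6, 0, 1, 0, 1, 0, 1, 6, 0, 6, 0, 6, 0, 6, 6, 0, 6, 0, 4, 0, 1, 0, 1, 1, 0, 1, 0, 1, 0, 1, 6, 6, 0, 6, 0, 1, 0, 6, 0, 6, 0, 4, 0, 1, 0, 1, 0, 6, 0, 1, 0, 1, 1], 1),
    ([1, 0, 6, 6, 0, 6, 0, 6, 6, 3, 1, 1, 0, 1, 0, 1, 1, 0, 6, 0, 6, 6, 0, 6, 0, 6, 6, 0, 6, 6, 0, 4, 0, 1, 1, 0, 1, 1, 0, 1, 0, 1, 1, 0, 6, 0, 1, 0, 6, 0, 6, 0, 4, 0, 1, 0, 1, 0, 6, 0, 1], 1),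
    ([6, 6, 0, 6, 6, 0, 6, 0, 6, 6, 3, 1, 1, 0, 1, 0, 1, 1, 0, 1, 1, 0, 1, 0, 6, 0, 6, 0, 4, 0, 1, 0, 1, 0, 6, 0, 6, 6, 0, 6, 6, 0, 6, 0, 6, 0, 6, 0, 4, 0, 1, 0, 1, 0, 1, 0, 1, 1, 0, 1, 1], 1),
    ([0, 6, 6, 0, 6, 0, 6, 6, 3, 1, 1, 0, 1, 0, 1, 1, 0, 0, 6, 0, 6, 0, 6, 6, 0, 6, 0, 4, 0, 1, 0, 1, 1, 0, 1, 0, 1, 0, 0, 6, 6, 0, 6, 0, 6, 0, 6, 0, 4, 0, 1, 0, 1, 0, 1, 0, 1, 1, 0], 1),
    ([6, 0, 6, 6, 0, 6, 6, 0, 4, 0, 1, 1, 0, 1, 1, 0, 1, 0, 6, 0, 6, 6, 0, 1, 3, 6, 0, 1, 1, 0, 1, 0, 6, 0, 6, 0, 6, 6, 0, 6, 0, 6, 0, 6, 0, 4, 0, 1, 0, 1, 0, 1, 0, 1, 1, 0, 1, 0, 1], 1),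
    ([6, 6, 0, 6, 0, 6, 6, 0, 6, 6, 3, 1, 1, 0, 1, 1, 0, 1, 0, 1, 1, 0, 6, 0, 6, 0, 4, 0, 1, 0, 1, 0, 0, 6, 6, 0, 6, 0, 6, 6, 0, 6, 6, 0, 4, 0, 1, 1, 0, 1, 1, 0, 1, 0, 1, 1, 0], 1),
    ([6, 0, 6, 0, 6, 6, 0, 6, 6, 3, 1, 1, 0, 1, 1, 0, 1, 0, 1, 1, 0, 6, 0, 6, 0, 4, 0, 1, 0, 1, 0, 6, 6, 6, 0, 6, 6, 0, 6, 0, 6, 0, 6, 0, 4, 0, 1, 0, 1, 0, 1, 0, 1, 1, 0, 1, 1], 1),
    ([6, 0, 6, 6, 0, 6, 6, 3, 1, 1, 0, 1, 1, 0, 1, 0, 6, 6, 0, 6, 0, 6, 0, 4, 0, 1, 0, 1, 0, 1, 1, 0, 0, 6, 0, 6, 6, 0, 6, 0, 6, 0, 6, 0, 4, 0, 1, 0, 1, 0, 1, 0, 1, 1, 0, 1, 0], 1),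
    ([0, 6, 6, 0, 6, 6, 3, 1, 1, 0, 1, 1, 0, 0, 6, 6, 0, 6, 0, 6, 0, 4, 0, 1, 0, 1, 0, 1, 1, 0, 6, 0, 6, 0, 6, 6, 0, 6, 0, 6, 0, 6, 0, 4, 0, 1, 0, 1, 0, 1, 0, 1, 1, 0, 1, 0, 1], 1),
    ([6, 0, 6, 0, 6, 6, 0, 6, 6, 0, 4, 0, 1, 1, 0, 1, 1, 0, 1, 0, 1, 6, 6, 0, 6, 6, 0, 1, 3, 6, 0, 1, 1, 0, 1, 1, 1, 0, 6, 0, 1, 0, 6, 0, 6, 0, 4, 0, 1, 0, 1, 0, 6, 0, 1, 0, 6], 1),
    ([0, 6, 6, 0, 6, 6, 0, 4, 0, 1, 1, 0, 1, 1, 0, 0, 6, 0, 6, 6, 0, 1, 3, 6, 0, 1, 1, 0, 1, 0, 0, 6, 0, 6, 6, 0, 6, 0, 6, 0, 6, 0, 4, 0, 1, 0, 1, 0, 1, 0, 1, 1, 0, 1, 0], 1),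
    ([0, 6, 0, 6, 6, 0, 6, 6, 3, 1, 1, 0, 1, 1, 0, 1, 0, 6, 6, 0, 6, 0, 6, 0, 4, 0, 1, 0, 1, 0, 1, 1, 6, 0, 6, 6, 0, 6, 0, 6, 0, 6, 0, 4, 0, 1, 0, 1, 0, 1, 0, 1, 1, 0, 1], 1),
    ([0, 6, 0, 6, 6, 0, 6, 6, 0, 4, 0, 1, 1, 0, 1, 1, 0, 1, 0, 6, 0, 6, 6, 0, 1, 3, 6, 0, 1, 1, 0, 1, 6, 6, 0, 6, 0, 1, 0, 6, 0, 6, 0, 4, 0, 1, 0, 1, 0, 6, 0, 1, 0, 1, 1], 1),
    ([0, 6, 0, 6, 0, 1, 3, 6, 0, 1, 0, 1, 0, 6, 0, 6, 0, 1, 0, 6, 0, 6, 0, 4, 0, 1, 0, 1, 0, 6, 0, 1, 0, 1, 0, 6, 0, 6, 0, 6, 6, 0, 6, 0, 4, 0, 1, 0, 1, 1, 0, 1, 0, 1, 0], 1),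
    ([6, 6, 0, 6, 0, 6, 6, 0, 6, 6, 0, 4, 0, 1, 1, 0, 1, 1, 0, 1, 0, 1, 1, 1, 0, 6, 6, 0, 1, 3, 6, 0, 1, 1, 0, 6, 0, 6, 0, 1, 0, 6, 0, 6, 0, 4, 0, 1, 0, 1, 0, 6, 0, 1, 0], 1),
    ([6, 6, 0, 6, 0, 6, 6, 3, 1, 1, 0, 1, 0, 1, 1, 6, 6, 0, 6, 0, 6, 0, 6, 0, 4, 0, 1, 0, 1, 0, 1, 0, 1, 1, 6, 0, 6, 0, 6, 6, 0, 6, 0, 4, 0, 1, 0, 1, 1, 0, 1, 0, 1], 1),
    ([6, 6, 0, 6, 0, 6, 6, 0, 6, 6, 3, 1, 1, 0, 1, 1, 0, 1, 0, 1, 1, 6, 0, 6, 0, 4, 0, 1, 0, 1, 6, 6, 0, 6, 0, 6, 6, 0, 6, 6, 0, 4, 0, 1, 1, 0, 1, 1, 0, 1, 0, 1, 1], 1),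
    ([1, 0, 6, 0, 6, 6, 3, 1, 1, 0, 1, 0, 6, 6, 6, 0, 6, 0, 6, 6, 0, 6, 0, 4, 0, 1, 0, 1, 1, 0, 1, 0, 1, 1, 1, 0, 6, 0, 6, 0, 6, 0, 4, 0, 1, 0, 1, 0, 1, 0, 6], 1),
    ([0, 6, 6, 0, 1, 3, 6, 0, 1, 1, 0, 6, 0, 6, 0, 1, 0, 6, 0, 6, 0, 4, 0, 1, 0, 1, 0, 6, 0, 1, 0, 1, 0, 6, 6, 0, 6, 6, 0, 6, 0, 4, 0, 1, 0, 1, 1, 0, 1, 1, 0], 1),
    ([1, 0, 6, 6, 0, 4, 0, 1, 1, 0, 6, 6, 6, 0, 6, 6, 0, 1, 3, 6, 0, 1, 1, 0, 1, 1, 6, 6, 0, 6, 6, 0, 6, 0, 6, 0, 6, 0, 4, 0, 1, 0, 1, 0, 1, 0, 1, 1, 0, 1, 1], 1),
    ([6, 6, 0, 6, 0, 6, 0, 4, 0, 1, 0, 1, 0, 1, 1, 6, 6, 0, 6, 6, 3, 1, 1, 0, 1, 1, 6, 6, 0, 6, 0, 1, 0, 6, 0, 6, 0, 4, 0, 1, 0, 1, 0, 6, 0, 1, 0, 1, 1], 1),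
    ([6, 0, 6, 0, 1, 3, 6, 0, 1, 0, 1, 1, 0, 6, 0, 6, 6, 0, 6, 0, 4, 0, 1, 0, 1, 1, 0, 1, 0, 6, 6, 0, 6, 0, 6, 6, 0, 6, 0, 4, 0, 1, 0, 1, 1, 0, 1, 0, 1], 1),
    ([6, 0, 1, 0, 6, 6, 3, 1, 1, 0, 6, 0, 1, 6, 0, 1, 0, 6, 0, 6, 0, 4, 0, 1, 0, 1, 0, 6, 0, 1, 0, 6, 0, 1, 0, 6, 0, 6, 0, 4, 0, 1, 0, 1, 0, 6, 0, 1, 0], 1),
    ([6, 6, 0, 4, 0, 1, 1, 1, 0, 6, 6, 0, 6, 0, 6, 6, 3, 1, 1, 0, 1, 0, 1, 1, 0, 6, 6, 6, 0, 6, 0, 6, 6, 0, 6, 6, 0, 4, 0, 1, 1, 0, 1, 1, 0, 1, 0, 1, 1], 1),
    ([6, 6, 0, 6, 6, 0, 4, 0, 1, 1, 0, 1, 1, 6, 0, 6, 6, 0, 1, 3, 6, 0, 1, 1, 0, 1, 6, 0, 6, 6, 0, 6, 0, 6, 0, 6, 0, 4, 0, 1, 0, 1, 0, 1, 0, 1, 1, 0, 1], 1),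
    ([0, 1, 0, 6, 0, 1, 0, 6, 0, 1, 0, 6, 0, 1, 0, 6, 0, 1, 0, 6, 0, 1, 0, 6, 0, 1, 0, 6, 0, 1, 0, 6, 0, 1, 0, 6, 0, 1, 0, 6, 0, 1, 0, 6, 0, 1, 0, 6], 1),
    ([0, 6, 0, 1, 0, 6, 0, 1, 0, 6, 0, 1, 0, 6, 0, 1, 0, 6, 0, 1, 0, 6, 0, 1, 0, 6, 0, 1, 0, 6, 0, 1, 0, 6, 0, 1, 0, 6, 0, 1, 0, 6, 0, 1, 0, 6, 0, 1], 1),
    ([0, 6, 0, 1, 0, 1, 3, 6, 0, 6, 0, 1, 0, 6, 0, 6, 0, 6, 0, 4, 0, 1, 0, 1, 0, 1, 0, 6, 6, 0, 6, 0, 6, 0, 6, 0, 4, 0, 1, 0, 1, 0, 1, 0, 1, 1, 0], 1),
    ([0, 6, 0, 4, 0, 1, 0, 6, 0, 6, 0, 6, 6, 0, 6, 6, 0, 4, 0, 1, 1, 0, 1, 1, 0, 1, 0, 1, 6, 0, 6, 0, 6, 6, 0, 6, 6, 3, 1, 1, 0, 1, 1, 0, 1, 0, 1], 1),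
    ([0, 6, 0, 6, 6, 0, 6, 0, 4, 0, 1, 0, 1, 1, 0, 1, 0, 0, 6, 0, 1, 3, 6, 0, 1, 0, 6, 6, 0, 6, 0, 6, 6, 0, 6, 0, 4, 0, 1, 0, 1, 1, 0, 1, 0, 1, 1], 1),
    ([6, 0, 6, 0, 6, 0, 6, 0, 4, 0, 1, 0, 1, 0, 1, 0, 1, 0, 6, 0, 6, 6, 0, 6, 0, 4, 0, 1, 0, 1, 1, 0, 1, 0, 6, 0, 6, 0, 6, 6, 3, 1, 1, 0, 1, 0, 1], 1),
    ([0, 6, 6, 0, 4, 0, 1, 1, 0, 1, 0, 6, 6, 0, 1, 3, 6, 0, 1, 1, 0, 6, 0, 6, 6, 0, 6, 0, 6, 6, 0, 6, 6, 0, 4, 0, 1, 1, 0, 1, 1, 0, 1, 0, 1, 1, 0], 1),
    ([0, 1, 0, 6, 6, 3, 1, 1, 0, 6, 0, 0, 1, 0, 6, 0, 6, 0, 4, 0, 1, 0, 1, 0, 6, 0, 1, 0, 6, 0, 1, 0, 6, 0, 6, 0, 4, 0, 1, 0, 1, 0, 6, 0, 1, 0, 6], 1),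
    ([6, 0, 4, 0, 1, 6, 0, 6, 0, 6, 6, 0, 6, 6, 0, 4, 0, 1, 1, 0, 1, 1, 0, 1, 0, 1, 6, 6, 0, 6, 6, 0, 6, 0, 6, 6, 3, 1, 1, 0, 1, 0, 1, 1, 0, 1, 1], 1),
    ([6, 0, 1, 0, 1, 3, 6, 0, 6, 0, 1, 0, 6, 0, 6, 0, 6, 0, 4, 0, 1, 0, 1, 0, 1, 0, 6, 6, 0, 6, 0, 6, 0, 6, 0, 4, 0, 1, 0, 1, 0, 1, 0, 1, 1], 1),
    ([1, 0, 6, 0, 4, 0, 1, 0, 6, 0, 6, 0, 6, 6, 0, 6, 6, 3, 1, 1, 0, 1, 1, 0, 1, 0, 0, 6, 0, 6, 6, 0, 6, 6, 0, 4, 0, 1, 1, 0, 1, 1, 0, 1, 0], 1),
    ([0, 6, 0, 6, 6, 3, 1, 1, 0, 1, 0, 0, 6, 0, 6, 0, 6, 0, 4, 0, 1, 0, 1, 0, 1, 0, 1, 0, 6, 0, 6, 6, 0, 6, 0, 4, 0, 1, 0, 1, 1, 0, 1, 0, 6], 1),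
    ([6, 6, 0, 1, 3, 6, 0, 1, 1, 1, 0, 6, 0, 6, 6, 0, 6, 0, 4, 0, 1, 0, 1, 1, 0, 1, 0, 6, 6, 6, 0, 6, 6, 0, 6, 0, 4, 0, 1, 0, 1, 1, 0, 1, 1], 1),
    ([6, 0, 6, 0, 6, 0, 6, 0, 4, 0, 1, 0, 1, 0, 1, 0, 1, 0, 1, 0, 1, 3, 6, 0, 6, 0, 1, 0, 6, 0, 6, 0, 6, 0, 4, 0, 1, 0, 1, 0, 1, 0, 6], 1),
    ([1, 0, 6, 6, 3, 1, 1, 0, 6, 1, 0, 6, 0, 6, 0, 4, 0, 1, 0, 1, 0, 6, 1, 0, 6, 0, 1, 0, 6, 0, 6, 0, 4, 0, 1, 0, 1, 0, 6, 0, 1, 0, 6], 1),
    ([0, 6, 0, 1, 0, 1, 3, 6, 0, 6, 0, 1, 0, 6, 6, 0, 6, 0, 4, 0, 1, 0, 1, 1, 0, 6, 6, 0, 6, 6, 0, 6, 0, 4, 0, 1, 0, 1, 1, 0, 1, 1, 0], 1),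
    ([6, 0, 6, 6, 0, 6, 0, 4, 0, 1, 0, 1, 1, 0, 1, 6, 0, 1, 3, 6, 0, 1, 6, 6, 0, 6, 0, 6, 6, 0, 6, 0, 4, 0, 1, 0, 1, 1, 0, 1, 0, 1, 1], 1),
    ([6, 0, 6, 6, 0, 4, 0, 1, 1, 0, 1, 0, 6, 6, 0, 1, 3, 6, 0, 1, 1, 0, 0, 6, 6, 0, 6, 0, 6, 0, 6, 0, 4, 0, 1, 0, 1, 0, 1, 0, 1, 1, 0], 1),
    ([0, 1, 0, 6, 0, 4, 0, 1, 0, 6, 0, 6, 0, 6, 6, 0, 6, 6, 3, 1, 1, 0, 1, 1, 0, 1, 6, 0, 6, 6, 0, 6, 6, 0, 4, 0, 1, 1, 0, 1, 1, 0, 1], 1),
    ([6, 0, 6, 0, 6, 6, 0, 4, 0, 1, 1, 0, 1, 0, 1, 6, 0, 6, 6, 0, 6, 0, 4, 0, 1, 0, 1, 1, 0, 1, 6, 0, 6, 0, 6, 6, 3, 1, 1, 0, 1, 0, 1], 1),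
    ([6, 0, 6, 6, 3, 1, 1, 0, 1, 6, 0, 6, 0, 6, 0, 4, 0, 1, 0, 1, 0, 1, 6, 0, 6, 0, 1, 0, 6, 0, 6, 0, 4, 0, 1, 0, 1, 0, 6, 0, 1, 0, 1], 1),
    ([0, 1, 0, 1, 0, 1, 0, 1, 0, 1, 0, 1, 0, 1, 0, 1, 0, 1, 0, 1, 0, 1, 0, 1, 0, 1, 0, 1, 0, 1, 0, 1, 0, 1, 0, 1, 0, 1, 0, 1, 0, 1], 1),
    ([6, 0, 1, 0, 1, 3, 6, 0, 6, 0, 1, 0, 6, 6, 0, 6, 0, 4, 0, 1, 0, 1, 1, 0, 6, 6, 0, 6, 6, 0, 6, 0, 4, 0, 1, 0, 1, 1, 0, 1, 1], 1),
    ([0, 6, 0, 6, 6, 0, 4, 0, 1, 1, 0, 1, 0, 6, 6, 0, 1, 3, 6, 0, 1, 1, 6, 6, 0, 6, 0, 6, 0, 6, 0, 4, 0, 1, 0, 1, 0, 1, 0, 1, 1], 1),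
    ([0, 4, 0, 6, 0, 6, 6, 0, 6, 0, 6, 6, 3, 1, 1, 0, 1, 0, 1, 1, 0, 1, 0, 6, 0, 6, 6, 0, 6, 6, 0, 4, 0, 1, 1, 0, 1, 1, 0, 1, 0], 1),
    ([0, 6, 6, 0, 6, 0, 6, 6, 3, 1, 1, 0, 1, 0, 1, 1, 0, 1, 0, 4, 0, 6, 0, 6, 6, 0, 6, 6, 0, 6, 0, 4, 0, 1, 0, 1, 1, 0, 1, 1, 0], 1),
    ([6, 6, 0, 6, 0, 6, 6, 3, 1, 1, 0, 1, 0, 1, 1, 0, 1, 0, 4, 0, 6, 0, 6, 6, 0, 6, 6, 0, 6, 0, 4, 0, 1, 0, 1, 1, 0, 1, 1], 1),
    ([0, 1, 0, 6, 0, 4, 0, 1, 0, 6, 0, 0, 6, 6, 0, 6, 6, 0, 4, 0, 1, 1, 0, 1, 1, 0, 0, 6, 6, 0, 6, 6, 3, 1, 1, 0, 1, 1, 0], 1),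
    ([4, 0, 6, 0, 6, 6, 0, 6, 0, 6, 6, 3, 1, 1, 0, 1, 0, 1, 1, 0, 1, 0, 6, 0, 6, 6, 0, 6, 6, 0, 4, 0, 1, 1, 0, 1, 1, 0, 1], 1),
    ([6, 0, 6, 6, 0, 6, 0, 4, 0, 1, 0, 1, 1, 0, 1, 0, 1, 0, 1, 3, 6, 0, 6, 0, 1, 0, 6, 6, 0, 6, 0, 4, 0, 1, 0, 1, 1, 0, 6], 1),
    ([0, 3, 0, 0, 1, 0, 6, 0, 4, 0, 1, 0, 6, 0, 0, 6, 0, 6, 0, 6, 0, 6, 6, 0, 6, 0, 4, 0, 1, 0, 1, 1, 0, 1, 0, 1, 0, 1, 0], 1),
    ([0, 6, 0, 6, 6, 0, 6, 0, 4, 0, 1, 0, 1, 1, 0, 1, 0, 1, 0, 1, 3, 6, 0, 6, 1, 0, 6, 6, 0, 6, 0, 4, 0, 1, 0, 1, 1, 0, 6], 1),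
    ([6, 0, 6, 0, 6, 6, 0, 4, 0, 1, 1, 0, 1, 0, 1, 1, 0, 1, 3, 6, 0, 6, 1, 0, 6, 0, 6, 0, 6, 0, 4, 0, 1, 0, 1, 0, 1, 0, 6], 1),
    ([6, 0, 1, 0, 4, 0, 6, 0, 1, 1, 0, 6, 0, 6, 6, 3, 1, 1, 0, 1, 0, 6, 1, 0, 6, 6, 0, 6, 0, 4, 0, 1, 0, 1, 1, 0, 6], 1),
    ([0, 1, 3, 6, 0, 0, 6, 6, 0, 6, 0, 4, 0, 1, 0, 1, 1, 0, 6, 0, 6, 0, 6, 6, 0, 6, 0, 4, 0, 1, 0, 1, 1, 0, 1, 0, 1], 1),
    ([0, 6, 6, 3, 1, 1, 0, 0, 6, 0, 6, 0, 4, 0, 1, 0, 1, 0, 0, 6, 0, 1, 0, 6, 0, 6, 0, 4, 0, 1, 0, 1, 0, 6, 0, 1, 0], 1),
    ([0, 6, 0, 6, 6, 3, 1, 1, 0, 1, 0, 0, 6, 6, 0, 6, 0, 4, 0, 1, 0, 1, 1, 0, 0, 6, 0, 6, 6, 0, 4, 0, 1, 1, 0, 1, 0], 1),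
    ([1, 3, 6, 6, 6, 0, 6, 0, 4, 0, 1, 0, 1, 1, 0, 6, 0, 6, 0, 6, 6, 0, 6, 0, 4, 0, 1, 0, 1, 1, 0, 1, 0, 1, 0], 1),
    ([2, 0, 6, 0, 6, 6, 0, 6, 0, 6, 6, 3, 1, 1, 0, 1, 0, 1, 1, 0, 1, 0, 0, 6, 6, 0, 6, 6, 3, 1, 1, 0, 1, 1, 0], 1),
    ([2, 6, 0, 1, 0, 6, 6, 3, 1, 1, 0, 6, 0, 1, 6, 6, 0, 6, 0, 6, 6, 0, 6, 6, 3, 1, 1, 0, 1, 1, 0, 1, 0, 1, 1], 1),
    ([6, 0, 6, 0, 6, 6, 0, 4, 0, 1, 1, 0, 1, 0, 1, 6, 0, 1, 0, 4, 0, 6, 0, 1, 0, 6, 0, 1, 3, 6, 0, 1, 0], 1),
    ([1, 0, 6, 0, 4, 0, 1, 0, 6, 6, 6, 0, 6, 6, 0, 4, 0, 1, 1, 0, 1, 1, 6, 6, 0, 6, 6, 3, 1, 1, 0, 1, 1], 1),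
    ([2, 0, 6, 0, 6, 0, 6, 0, 1, 3, 6, 0, 1, 0, 1, 0, 1, 0, 6, 0, 6, 6, 0, 6, 6, 3, 1, 1, 0, 1, 1, 0, 1], 1),
    ([6, 0, 6, 0, 6, 0, 6, 0, 4, 0, 1, 0, 1, 0, 1, 0, 1, 6, 0, 1, 0, 4, 0, 6, 0, 1, 6, 0, 1, 3, 6, 0, 1], 1),
    ([2, 0, 6, 0, 6, 6, 0, 6, 6, 3, 1, 1, 0, 1, 1, 0, 1, 0, 6, 0, 6, 0, 6, 0, 1, 3, 6, 0, 1, 0, 1, 0, 1], 1),
    ([3, 1, 0, 6, 0, 4, 0, 1, 0, 6, 6, 0, 6, 0, 6, 0, 6, 6, 0, 6, 0, 4, 0, 1, 0, 1, 1, 0, 1, 0, 1, 0, 1], 1),
    ([4, 0, 6, 0, 6, 0, 6, 0, 1, 3, 6, 0, 1, 0, 1, 0, 1, 0, 0, 6, 6, 0, 6, 6, 0, 4, 0, 1, 1, 0, 1, 1, 0], 1),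
    ([0, 4, 0, 6, 6, 0, 6, 6, 0, 4, 0, 1, 1, 0, 1, 1, 6, 0, 6, 0, 6, 0, 1, 3, 6, 0, 1, 0, 1, 0, 1], 1),
    ([2, 6, 6, 0, 6, 6, 0, 6, 0, 6, 6, 3, 1, 1, 0, 1, 0, 1, 1, 0, 1, 1, 1, 0, 6, 6, 3, 1, 1, 0, 6], 1),
    ([2, 6, 0, 6, 6, 0, 6, 0, 6, 6, 3, 1, 1, 0, 1, 0, 1, 1, 0, 1, 6, 6, 0, 6, 6, 3, 1, 1, 0, 1, 1], 1),
    ([6, 6, 3, 1, 1, 6, 0, 6, 0, 4, 0, 1, 0, 1, 6, 0, 1, 0, 6, 0, 6, 0, 4, 0, 1, 0, 1, 0, 6, 0, 1], 1),
    ([2, 0, 1, 0, 6, 6, 3, 1, 1, 0, 6, 0, 6, 0, 6, 0, 6, 6, 0, 6, 6, 3, 1, 1, 0, 1, 1, 0, 1, 0, 1], 1),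
    ([6, 0, 6, 6, 3, 1, 1, 0, 1, 6, 6, 0, 6, 0, 4, 0, 1, 0, 1, 1, 6, 0, 6, 6, 0, 4, 0, 1, 1, 0, 1], 1),
    ([6, 0, 6, 0, 1, 3, 6, 0, 1, 0, 1, 0, 1, 0, 4, 0, 6, 0, 0, 6, 0, 6, 6, 0, 4, 0, 1, 1, 0, 1, 0], 1),
    ([0, 6, 0, 6, 0, 1, 3, 6, 0, 1, 0, 1, 0, 1, 0, 4, 0, 6, 6, 0, 6, 6, 0, 4, 0, 1, 1, 0, 1], 1),
    ([6, 0, 1, 0, 6, 6, 3, 1, 1, 0, 6, 0, 1, 6, 6, 0, 4, 0, 1, 1, 0, 6, 6, 0, 4, 0, 1, 1, 0], 1),
    ([2, 0, 6, 0, 6, 0, 1, 3, 6, 0, 1, 0, 1, 0, 0, 6, 0, 1, 0, 1, 3, 6, 0, 6, 0, 1, 0], 1),
    ([2, 0, 6, 0, 6, 6, 3, 1, 1, 0, 1, 0, 6, 6, 0, 6, 0, 6, 6, 3, 1, 1, 0, 1, 0, 1, 1], 1),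
    ([2, 6, 0, 6, 6, 3, 1, 1, 0, 1, 0, 6, 6, 0, 6, 0, 6, 6, 3, 1, 1, 0, 1, 0, 1, 1, 0], 1),
    ([2, 1, 0, 6, 0, 6, 6, 3, 1, 1, 0, 1, 0, 6, 6, 0, 6, 0, 6, 6, 3, 1, 1, 0, 1, 0, 1], 1),
    ([0, 1, 3, 6, 0, 0, 1, 0, 4, 0, 6, 0, 0, 6, 0, 6, 0, 6, 0, 4, 0, 1, 0, 1, 0, 1, 0], 1),
    ([6, 0, 4, 0, 1, 0, 1, 0, 6, 6, 3, 1, 1, 0, 6, 0, 1, 0, 6, 6, 0, 4, 0, 1, 1, 0, 6], 1),
    ([2, 0, 6, 6, 3, 1, 1, 0, 1, 0, 6, 6, 0, 6, 0, 6, 6, 3, 1, 1, 0, 1, 0, 1, 1, 0, 6], 1),
    ([0, 6, 0, 4, 0, 1, 0, 1, 0, 6, 6, 3, 1, 1, 0, 6, 1, 0, 6, 6, 0, 4, 0, 1, 1, 0, 6], 1),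
    ([0, 6, 6, 3, 1, 1, 0, 6, 0, 6, 0, 4, 0, 1, 0, 1, 0, 6, 6, 0, 4, 0, 1, 1, 0], 1),
    ([0, 6, 0, 4, 0, 1, 0, 6, 3, 1, 0, 1, 0, 6, 0, 6, 0, 4, 0, 1, 0, 1, 0, 6, 0], 1),
    ([0, 6, 6, 0, 6, 0, 1, 0, 6, 6, 0, 4, 0, 1, 1, 0, 6, 0, 1, 0, 1, 1, 0, 4], 1),
    ([0, 6, 6, 0, 1, 0, 6, 6, 0, 1, 0, 4, 0, 6, 0, 1, 1, 0, 6, 0, 1, 1, 0, 4], 1),
    ([2, 6, 0, 6, 0, 1, 3, 6, 0, 1, 0, 1, 6, 0, 1, 0, 1, 3, 6, 0, 6, 0, 1], 1),
    ([6, 6, 3, 1, 1, 6, 6, 0, 4, 0, 1, 1, 0, 6, 0, 6, 0, 4, 0, 1, 0, 1, 0], 1),
    ([6, 0, 1, 0, 6, 6, 0, 6, 0, 1, 3, 6, 0, 1, 0, 1, 1, 0, 6, 0, 1, 3], 1),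
    ([6, 0, 6, 0, 6, 6, 0, 1, 0, 1, 3, 6, 0, 6, 0, 1, 1, 0, 1, 0, 1, 3], 1),
    ([6, 0, 4, 0, 1, 6, 3, 1, 1, 0, 6, 0, 6, 0, 4, 0, 1, 0, 1, 0, 6], 1),
    ([4, 0, 3, 0, 0, 6, 6, 0, 6, 0, 6, 0, 4, 0, 1, 0, 1, 0, 1, 1, 0], 1),
    ([1, 3, 6, 1, 0, 4, 0, 6, 6, 0, 6, 0, 6, 0, 4, 0, 1, 0, 1, 0, 1], 1),
    ([0, 6, 0, 1, 0, 6, 0, 1, 0, 4, 0, 6, 0, 1, 0, 6, 0, 1, 0, 4], 1),
    ([2, 0, 3, 0, 0, 6, 0, 6, 6, 0, 1, 3, 6, 0, 1, 1, 0, 1, 0], 1),
    ([2, 0, 1, 0, 1, 3, 6, 0, 6, 0, 0, 6, 0, 1, 3, 6, 0, 1, 0], 1),
    ([2, 6, 6, 3, 1, 1, 1, 0, 6, 6, 0, 1, 3, 6, 0, 1, 1, 0, 6], 1),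
    ([0, 4, 0, 3, 6, 6, 0, 6, 0, 6, 0, 4, 0, 1, 0, 1, 0, 1, 1], 1),
    ([2, 6, 3, 1, 6, 6, 0, 6, 6, 0, 1, 3, 6, 0, 1, 1, 0, 1, 1], 1),
    ([2, 1, 3, 6, 0, 6, 6, 0, 1, 3, 6, 0, 1, 1, 0], 1),
    ([2, 0, 1, 3, 6, 0, 6, 6, 0, 1, 3, 6, 0, 1, 1], 1),
    ([2, 3, 6, 0, 6, 6, 0, 1, 3, 6, 0, 1, 1, 0, 1], 1),
    ([2, 6, 0, 1, 3, 6, 0, 1, 1, 0, 1, 3, 6, 0, 6], 1),
    ([0, 6, 0, 3, 0, 1, 0, 3], 1),
    ([1, 0, 6, 3, 1, 0, 6, 3], 1),
    ([6, 4, 1, 4], 1),
    ([0, 2, 0, 2], 1),
    ([6, 2, 1, 2], 1),
    ([1, 1, 1, 1], 1),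
    ([4, 4], 1),
    ([3, 3], 1),
    ([2, 2], 1),
    ([0, 0], 1),
    ([], 1),
    ([0, 5], 1),
    ([1, 6], 1),
    ([2, 7], 1),
    ([3, 8], 1),
    ([4, 9], 1),
    ([5, 0], 1),
    ([6, 1], 1),
    ([7, 2], 1),
    ([8, 3], 1),
    ([9, 4], 1)]

/-- The relators. -/
def relWords : List (List (Fin 5 × Bool)) := [
    [(0, true), (1, true), (1, true), (0, true), (1, true), (0, true), (1, false), (0, true), (1, false), (0, true), (1, true), (0, true), (1, false), (0, true), (1, true), (0, true), (1, false), (0, true), (1, true), (1, true), (0, true), (1, true), (0, true), (1, false), (0, true), (1, false), (1, false), (0, true), (1, false), (1, false), (3, true), (1, true), (1, true), (0, true), (1, true), (1, true), (0, true), (1, true), (0, true), (1, false), (0, true), (1, false), (0, true), (1, true), (0, true), (1, false), (0, true), (1, false), (0, true), (4, true), (0, true), (1, true), (0, true), (1, true), (0, true), (1, false), (0, true), (1, true), (0, true), (1, true), (0, true), (1, false),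 (0, true), (1, false), (1, false), (0, true), (1, false), (1, false), (3, true), (1, true), (1, true), (0, true), (1, true), (1, true), (0, true), (1, true), (0, true), (0, true), (1, false), (1, false), (0, true), (1, false), (1, false), (0, true), (1, false), (0, true), (4, true), (0, true), (1, true), (0, true), (1, true), (1, true), (0, true), (1, true), (1, true), (0, true)],
    [(0, true), (1, true), (0, true), (1, false), (0, true), (1, false), (0, true), (1, false), (0, true), (1, true), (0, true), (1, true), (1, true), (0, true), (1, true), (0, true), (1, true), (0, true), (1, true), (1, true), (1, false), (1, false), (0, true), (1, false), (1, false), (0, true), (1, false), (0, true), (1, false), (1, false), (3, true), (1, true), (1, true), (0, true), (1, true), (0, true), (1, true), (1, true), (0, true), (1, true), (1, true), (1, false), (0, true), (1, true), (3, true), (1, false), (0, true), (1, true), (1, false), (1, false), (0, true), (1, false), (1, false), (0, true), (1, false), (0, true),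 (1, false), (1, false), (3, true), (1, true), (1, true), (0, true), (1, true), (0, true), (1, true), (1, true), (0, true), (1, true), (1, true), (1, true), (0, true), (1, true), (3, true), (1, false), (0, true), (1, false)],
    [(0, true), (1, true), (0, true), (1, false), (0, true), (1, true), (1, true), (0, true), (1, true), (0, true), (1, true), (1, true), (0, true), (1, true), (0, true), (1, false), (1, true), (0, true), (1, false), (1, false), (0, true), (1, false), (0, true), (4, true), (0, true), (1, true), (0, true), (1, true), (1, true), (0, true), (1, false), (0, true), (1, false), (0, true), (1, false), (1, false), (0, true), (1, false), (1, false), (3, true), (1, true), (1, true), (0, true), (1, true), (1, true), (0, true), (1, true), (0, true), (1, true), (0, true), (1, false), (1, false), (0, true), (1, false), (0, true), (4, true), (0, true), (1, true), (0, true), (1, true), (1, true), (0, true), (1, false), (0, true), (1, false), (1, false), (0, true), (1, true), (3, true), (1, false),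 (0, true), (1, true), (1, true), (0, true)],
    [(0, true), (1, false), (0, true), (1, false), (1, false), (0, true), (1, false), (0, true), (1, false), (1, false), (3, true), (1, true), (1, true), (0, true), (1, true), (0, true), (1, true), (1, true), (0, true), (1, true), (0, true), (0, true), (1, false), (0, true), (1, false), (0, true), (1, false), (0, true), (1, false), (1, false), (0, true), (1, false), (0, true), (4, true), (0, true), (1, true), (0, true), (1, true), (1, true), (0, true), (1, true), (0, true), (1, true), (0, true), (1, true), (0, true), (0, true), (1, false), (0, true), (1, false), (1, false), (0, true), (1, false), (0, true), (1, false), (0, true), (1, false), (0, true), (4, true), (0, true), (1, true), (0, true), (1, true), (0, true), (1, true), (0, true), (1, true), (1, true), (0, true), (1, true), (0, true)],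
    [(0, true), (1, false), (0, true), (1, false), (0, true), (1, false), (0, true), (1, true), (3, true), (1, false), (0, true), (1, true), (0, true), (1, true), (0, true), (1, true), (0, true), (0, true), (1, false), (0, true), (1, false), (0, true), (1, false), (0, true), (1, false), (1, false), (0, true), (1, false), (0, true), (4, true), (0, true), (1, true), (0, true), (1, true), (1, true), (0, true), (1, true), (0, true), (1, true), (0, true), (1, true), (0, true), (1, false), (0, true), (1, false), (0, true), (1, false), (1, false), (0, true), (1, false), (0, true), (1, false), (0, true), (1, false), (0, true), (4, true), (0, true), (1, true), (0, true), (1, true), (0, true), (1, true), (0, true), (1, true), (1, true), (0, true), (1, true), (0, true), (1, true)],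
    [(1, false), (0, true), (1, false), (1, false), (0, true), (1, false), (0, true), (1, false), (1, false), (3, true), (1, true), (1, true), (0, true), (1, true), (0, true), (1, true), (1, true), (0, true), (1, true), (1, false), (0, true), (1, false), (0, true), (1, false), (0, true), (1, false), (1, false), (0, true), (1, false), (0, true), (4, true), (0, true), (1, true), (0, true), (1, true), (1, true), (0, true), (1, true), (0, true), (1, true), (0, true), (1, true), (1, false), (0, true), (1, false), (1, false), (0, true), (1, false), (0, true), (1, false), (0, true), (1, false), (0, true), (4, true), (0, true), (1, true), (0, true), (1, true), (0, true), (1, true), (0, true), (1, true), (1, true), (0, true), (1, true)],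
    [(1, false), (0, true), (1, false), (0, true), (1, false), (0, true), (1, true), (3, true), (1, false), (0, true), (1, true), (0, true), (1, true), (0, true), (1, true), (1, false), (0, true), (1, false), (0, true), (1, false), (0, true), (1, false), (1, false), (0, true), (1, false), (0, true), (4, true), (0, true), (1, true), (0, true), (1, true), (1, true), (0, true), (1, true), (0, true), (1, true), (0, true), (1, true), (1, false), (1, false), (0, true), (1, false), (0, true), (1, true), (0, true), (1, false), (0, true), (1, false), (0, true), (4, true), (0, true), (1, true), (0, true), (1, true), (0, true), (1, false), (0, true), (1, true), (0, true), (1, true), (1, true)],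
    [(1, true), (0, true), (1, false), (1, false), (0, true), (1, false), (0, true), (1, false), (1, false), (3, true), (1, true), (1, true), (0, true), (1, true), (0, true), (1, true), (1, true), (0, true), (1, false), (0, true), (1, false), (1, false), (0, true), (1, false), (0, true), (1, false), (1, false), (0, true), (1, false), (1, false), (0, true), (4, true), (0, true), (1, true), (1, true), (0, true), (1, true), (1, true), (0, true), (1, true), (0, true), (1, true), (1, true), (0, true), (1, false), (0, true), (1, true), (0, true), (1, false), (0, true), (1, false), (0, true), (4, true), (0, true), (1, true), (0, true), (1, true), (0, true), (1, false), (0, true), (1, true)],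
    [(1, false), (1, false), (0, true), (1, false), (1, false), (0, true), (1, false), (0, true), (1, false), (1, false), (3, true), (1, true), (1, true), (0, true), (1, true), (0, true), (1, true), (1, true), (0, true), (1, true), (1, true), (0, true), (1, true), (0, true), (1, false), (0, true), (1, false), (0, true), (4, true), (0, true), (1, true), (0, true), (1, true), (0, true), (1, false), (0, true), (1, false), (1, false), (0, true), (1, false), (1, false), (0, true), (1, false), (0, true), (1, false), (0, true), (1, false), (0, true), (4, true), (0, true), (1, true), (0, true), (1, true), (0, true), (1, true), (0, true), (1, true), (1, true), (0, true), (1, true), (1, true)],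
    [(0, true), (1, false), (1, false), (0, true), (1, false), (0, true), (1, false), (1, false), (3, true), (1, true), (1, true), (0, true), (1, true), (0, true), (1, true), (1, true), (0, true), (0, true), (1, false), (0, true), (1, false), (0, true), (1, false), (1, false), (0, true), (1, false), (0, true), (4, true), (0, true), (1, true), (0, true), (1, true), (1, true), (0, true), (1, true), (0, true), (1, true), (0, true), (0, true), (1, false), (1, false), (0, true), (1, false), (0, true), (1, false), (0, true), (1, false), (0, true), (4, true), (0, true), (1, true), (0, true), (1, true), (0, true), (1, true), (0, true), (1, true), (1, true), (0, true)],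
    [(1, false), (0, true), (1, false), (1, false), (0, true), (1, false), (1, false), (0, true), (4, true), (0, true), (1, true), (1, true), (0, true), (1, true), (1, true), (0, true), (1, true), (0, true), (1, false), (0, true), (1, false), (1, false), (0, true), (1, true), (3, true), (1, false), (0, true), (1, true), (1, true), (0, true), (1, true), (0, true), (1, false), (0, true), (1, false), (0, true), (1, false), (1, false), (0, true), (1, false), (0, true), (1, false), (0, true), (1, false), (0, true), (4, true), (0, true), (1, true), (0, true), (1, true), (0, true), (1, true), (0, true), (1, true), (1, true), (0, true), (1, true), (0, true), (1, true)],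
    [(1, false), (1, false), (0, true), (1, false), (0, true), (1, false), (1, false), (0, true), (1, false), (1, false), (3, true), (1, true), (1, true), (0, true), (1, true), (1, true), (0, true), (1, true), (0, true), (1, true), (1, true), (0, true), (1, false), (0, true), (1, false), (0, true), (4, true), (0, true), (1, true), (0, true), (1, true), (0, true), (0, true), (1, false), (1, false), (0, true), (1, false), (0, true), (1, false), (1, false), (0, true), (1, false), (1, false), (0, true), (4, true), (0, true), (1, true), (1, true), (0, true), (1, true), (1, true), (0, true), (1, true), (0, true), (1, true), (1, true), (0, true)],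
    [(1, false), (0, true), (1, false), (0, true), (1, false), (1, false), (0, true), (1, false), (1, false), (3, true), (1, true), (1, true), (0, true), (1, true), (1, true), (0, true), (1, true), (0, true), (1, true), (1, true), (0, true), (1, false), (0, true), (1, false), (0, true), (4, true), (0, true), (1, true), (0, true), (1, true), (0, true), (1, false), (1, false), (1, false), (0, true), (1, false), (1, false), (0, true), (1, false), (0, true), (1, false), (0, true), (1, false), (0, true), (4, true), (0, true), (1, true), (0, true), (1, true), (0, true), (1, true), (0, true), (1, true), (1, true), (0, true), (1, true), (1, true)],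
    [(1, false), (0, true), (1, false), (1, false), (0, true), (1, false), (1, false), (3, true), (1, true), (1, true), (0, true), (1, true), (1, true), (0, true), (1, true), (0, true), (1, false), (1, false), (0, true), (1, false), (0, true), (1, false), (0, true), (4, true), (0, true), (1, true), (0, true), (1, true), (0, true), (1, true), (1, true), (0, true), (0, true), (1, false), (0, true), (1, false), (1, false), (0, true), (1, false), (0, true), (1, false), (0, true), (1, false), (0, true), (4, true), (0, true), (1, true), (0, true), (1, true), (0, true), (1, true), (0, true), (1, true), (1, true), (0, true), (1, true), (0, true)],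
    [(0, true), (1, false), (1, false), (0, true), (1, false), (1, false), (3, true), (1, true), (1, true), (0, true), (1, true), (1, true), (0, true), (0, true), (1, false), (1, false), (0, true), (1, false), (0, true), (1, false), (0, true), (4, true), (0, true), (1, true), (0, true), (1, true), (0, true), (1, true), (1, true), (0, true), (1, false), (0, true), (1, false), (0, true), (1, false), (1, false), (0, true), (1, false), (0, true), (1, false), (0, true), (1, false), (0, true), (4, true), (0, true), (1, true), (0, true), (1, true), (0, true), (1, true), (0, true), (1, true), (1, true), (0, true), (1, true), (0, true), (1, true)],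
    [(1, false), (0, true), (1, false), (0, true), (1, false), (1, false), (0, true), (1, false), (1, false), (0, true), (4, true), (0, true), (1, true), (1, true), (0, true), (1, true), (1, true), (0, true), (1, true), (0, true), (1, true), (1, false), (1, false), (0, true), (1, false), (1, false), (0, true), (1, true), (3, true), (1, false), (0, true), (1, true), (1, true), (0, true), (1, true), (1, true), (1, true), (0, true), (1, false), (0, true), (1, true), (0, true), (1, false), (0, true), (1, false), (0, true), (4, true), (0, true), (1, true), (0, true), (1, true), (0, true), (1, false), (0, true), (1, true), (0, true), (1, false)],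
    [(0, true), (1, false), (1, false), (0, true), (1, false), (1, false), (0, true), (4, true), (0, true), (1, true), (1, true), (0, true), (1, true), (1, true), (0, true), (0, true), (1, false), (0, true), (1, false), (1, false), (0, true), (1, true), (3, true), (1, false), (0, true), (1, true), (1, true), (0, true), (1, true), (0, true), (0, true), (1, false), (0, true), (1, false), (1, false), (0, true), (1, false), (0, true), (1, false), (0, true), (1, false), (0, true), (4, true), (0, true), (1, true), (0, true), (1, true), (0, true), (1, true), (0, true), (1, true), (1, true), (0, true), (1, true), (0, true)],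
    [(0, true), (1, false), (0, true), (1, false), (1, false), (0, true), (1, false), (1, false), (3, true), (1, true), (1, true), (0, true), (1, true), (1, true), (0, true), (1, true), (0, true), (1, false), (1, false), (0, true), (1, false), (0, true), (1, false), (0, true), (4, true), (0, true), (1, true), (0, true), (1, true), (0, true), (1, true), (1, true), (1, false), (0, true), (1, false), (1, false), (0, true), (1, false), (0, true), (1, false), (0, true), (1, false), (0, true), (4, true), (0, true), (1, true), (0, true), (1, true), (0, true), (1, true), (0, true), (1, true), (1, true), (0, true), (1, true)],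
    [(0, true), (1, false), (0, true), (1, false), (1, false), (0, true), (1, false), (1, false), (0, true), (4, true), (0, true), (1, true), (1, true), (0, true), (1, true), (1, true), (0, true), (1, true), (0, true), (1, false), (0, true), (1, false), (1, false), (0, true), (1, true), (3, true), (1, false), (0, true), (1, true), (1, true), (0, true), (1, true), (1, false), (1, false), (0, true), (1, false), (0, true), (1, true), (0, true), (1, false), (0, true), (1, false), (0, true), (4, true), (0, true), (1, true), (0, true), (1, true), (0, true), (1, false), (0, true), (1, true), (0, true), (1, true), (1, true)],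
    [(0, true), (1, false), (0, true), (1, false), (0, true), (1, true), (3, true), (1, false), (0, true), (1, true), (0, true), (1, true), (0, true), (1, false), (0, true), (1, false), (0, true), (1, true), (0, true), (1, false), (0, true), (1, false), (0, true), (4, true), (0, true), (1, true), (0, true), (1, true), (0, true), (1, false), (0, true), (1, true), (0, true), (1, true), (0, true), (1, false), (0, true), (1, false), (0, true), (1, false), (1, false), (0, true), (1, false), (0, true), (4, true), (0, true), (1, true), (0, true), (1, true), (1, true), (0, true), (1, true), (0, true), (1, true), (0, true)],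
    [(1, false), (1, false), (0, true), (1, false), (0, true), (1, false), (1, false), (0, true), (1, false), (1, false), (0, true), (4, true), (0, true), (1, true), (1, true), (0, true), (1, true), (1, true), (0, true), (1, true), (0, true), (1, true), (1, true), (1, true), (0, true), (1, false), (1, false), (0, true), (1, true), (3, true), (1, false), (0, true), (1, true), (1, true), (0, true), (1, false), (0, true), (1, false), (0, true), (1, true), (0, true), (1, false), (0, true), (1, false), (0, true), (4, true), (0, true), (1, true), (0, true), (1, true), (0, true), (1, false), (0, true), (1, true), (0, true)],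
    [(1, false), (1, false), (0, true), (1, false), (0, true), (1, false), (1, false), (3, true), (1, true), (1, true), (0, true), (1, true), (0, true), (1, true), (1, true), (1, false), (1, false), (0, true), (1, false), (0, true), (1, false), (0, true), (1, false), (0, true), (4, true), (0, true), (1, true), (0, true), (1, true), (0, true), (1, true), (0, true), (1, true), (1, true), (1, false), (0, true), (1, false), (0, true), (1, false), (1, false), (0, true), (1, false), (0, true), (4, true), (0, true), (1, true), (0, true), (1, true), (1, true), (0, true), (1, true), (0, true), (1, true)],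
    [(1, false), (1, false), (0, true), (1, false), (0, true), (1, false), (1, false), (0, true), (1, false), (1, false), (3, true), (1, true), (1, true), (0, true), (1, true), (1, true), (0, true), (1, true), (0, true), (1, true), (1, true), (1, false), (0, true), (1, false), (0, true), (4, true), (0, true), (1, true), (0, true), (1, true), (1, false), (1, false), (0, true), (1, false), (0, true), (1, false), (1, false), (0, true), (1, false), (1, false), (0, true), (4, true), (0, true), (1, true), (1, true), (0, true), (1, true), (1, true), (0, true), (1, true), (0, true), (1, true), (1, true)],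
    [(1, true), (0, true), (1, false), (0, true), (1, false), (1, false), (3, true), (1, true), (1, true), (0, true), (1, true), (0, true), (1, false), (1, false), (1, false), (0, true), (1, false), (0, true), (1, false), (1, false), (0, true), (1, false), (0, true), (4, true), (0, true), (1, true), (0, true), (1, true), (1, true), (0, true), (1, true), (0, true), (1, true), (1, true), (1, true), (0, true), (1, false), (0, true), (1, false), (0, true), (1, false), (0, true), (4, true), (0, true), (1, true), (0, true), (1, true), (0, true), (1, true), (0, true), (1, false)],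
    [(0, true), (1, false), (1, false), (0, true), (1, true), (3, true), (1, false), (0, true), (1, true), (1, true), (0, true), (1, false), (0, true), (1, false), (0, true), (1, true), (0, true), (1, false), (0, true), (1, false), (0, true), (4, true), (0, true), (1, true), (0, true), (1, true), (0, true), (1, false), (0, true), (1, true), (0, true), (1, true), (0, true), (1, false), (1, false), (0, true), (1, false), (1, false), (0, true), (1, false), (0, true), (4, true), (0, true), (1, true), (0, true), (1, true), (1, true), (0, true), (1, true), (1, true), (0, true)],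
    [(1, true), (0, true), (1, false), (1, false), (0, true), (4, true), (0, true), (1, true), (1, true), (0, true), (1, false), (1, false), (1, false), (0, true), (1, false), (1, false), (0, true), (1, true), (3, true), (1, false), (0, true), (1, true), (1, true), (0, true), (1, true), (1, true), (1, false), (1, false), (0, true), (1, false), (1, false), (0, true), (1, false), (0, true), (1, false), (0, true), (1, false), (0, true), (4, true), (0, true), (1, true), (0, true), (1, true), (0, true), (1, true), (0, true), (1, true), (1, true), (0, true), (1, true), (1, true)],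
    [(1, false), (1, false), (0, true), (1, false), (0, true), (1, false), (0, true), (4, true), (0, true), (1, true), (0, true), (1, true), (0, true), (1, true), (1, true), (1, false), (1, false), (0, true), (1, false), (1, false), (3, true), (1, true), (1, true), (0, true), (1, true), (1, true), (1, false), (1, false), (0, true), (1, false), (0, true), (1, true), (0, true), (1, false), (0, true), (1, false), (0, true), (4, true), (0, true), (1, true), (0, true), (1, true), (0, true), (1, false), (0, true), (1, true), (0, true), (1, true), (1, true)],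
    [(1, false), (0, true), (1, false), (0, true), (1, true), (3, true), (1, false), (0, true), (1, true), (0, true), (1, true), (1, true), (0, true), (1, false), (0, true), (1, false), (1, false), (0, true), (1, false), (0, true), (4, true), (0, true), (1, true), (0, true), (1, true), (1, true), (0, true), (1, true), (0, true), (1, false), (1, false), (0, true), (1, false), (0, true), (1, false), (1, false), (0, true), (1, false), (0, true), (4, true), (0, true), (1, true), (0, true), (1, true), (1, true), (0, true), (1, true), (0, true), (1, true)],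
    [(1, false), (0, true), (1, true), (0, true), (1, false), (1, false), (3, true), (1, true), (1, true), (0, true), (1, false), (0, true), (1, true), (1, false), (0, true), (1, true), (0, true), (1, false), (0, true), (1, false), (0, true), (4, true), (0, true), (1, true), (0, true), (1, true), (0, true), (1, false), (0, true), (1, true), (0, true), (1, false), (0, true), (1, true), (0, true), (1, false), (0, true), (1, false), (0, true), (4, true), (0, true), (1, true), (0, true), (1, true), (0, true), (1, false), (0, true), (1, true), (0, true)],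
    [(1, false), (1, false), (0, true), (4, true), (0, true), (1, true), (1, true), (1, true), (0, true), (1, false), (1, false), (0, true), (1, false), (0, true), (1, false), (1, false), (3, true), (1, true), (1, true), (0, true), (1, true), (0, true), (1, true), (1, true), (0, true), (1, false), (1, false), (1, false), (0, true), (1, false), (0, true), (1, false), (1, false), (0, true), (1, false), (1, false), (0, true), (4, true), (0, true), (1, true), (1, true), (0, true), (1, true), (1, true), (0, true), (1, true), (0, true), (1, true), (1, true)],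
    [(1, false), (1, false), (0, true), (1, false), (1, false), (0, true), (4, true), (0, true), (1, true), (1, true), (0, true), (1, true), (1, true), (1, false), (0, true), (1, false), (1, false), (0, true), (1, true), (3, true), (1, false), (0, true), (1, true), (1, true), (0, true), (1, true), (1, false), (0, true), (1, false), (1, false), (0, true), (1, false), (0, true), (1, false), (0, true), (1, false), (0, true), (4, true), (0, true), (1, true), (0, true), (1, true), (0, true), (1, true), (0, true), (1, true), (1, true), (0, true), (1, true)],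
    [(0, true), (1, true), (0, true), (1, false), (0, true), (1, true), (0, true), (1, false), (0, true), (1, true), (0, true), (1, false), (0, true), (1, true), (0, true), (1, false), (0, true), (1, true), (0, true), (1, false), (0, true), (1, true), (0, true), (1, false), (0, true), (1, true), (0, true), (1, false), (0, true), (1, true), (0, true), (1, false), (0, true), (1, true), (0, true), (1, false), (0, true), (1, true), (0, true), (1, false), (0, true), (1, true), (0, true), (1, false), (0, true), (1, true), (0, true), (1, false)],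
    [(0, true), (1, false), (0, true), (1, true), (0, true), (1, false), (0, true), (1, true), (0, true), (1, false), (0, true), (1, true), (0, true), (1, false), (0, true), (1, true), (0, true), (1, false), (0, true), (1, true), (0, true), (1, false), (0, true), (1, true), (0, true), (1, false), (0, true), (1, true), (0, true), (1, false), (0, true), (1, true), (0, true), (1, false), (0, true), (1, true), (0, true), (1, false), (0, true), (1, true), (0, true), (1, false), (0, true), (1, true), (0, true), (1, false), (0, true), (1, true)],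
    [(0, true), (1, false), (0, true), (1, true), (0, true), (1, true), (3, true), (1, false), (0, true), (1, false), (0, true), (1, true), (0, true), (1, false), (0, true), (1, false), (0, true), (1, false), (0, true), (4, true), (0, true), (1, true), (0, true), (1, true), (0, true), (1, true), (0, true), (1, false), (1, false), (0, true), (1, false), (0, true), (1, false), (0, true), (1, false), (0, true), (4, true), (0, true), (1, true), (0, true), (1, true), (0, true), (1, true), (0, true), (1, true), (1, true), (0, true)],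
    [(0, true), (1, false), (0, true), (4, true), (0, true), (1, true), (0, true), (1, false), (0, true), (1, false), (0, true), (1, false), (1, false), (0, true), (1, false), (1, false), (0, true), (4, true), (0, true), (1, true), (1, true), (0, true), (1, true), (1, true), (0, true), (1, true), (0, true), (1, true), (1, false), (0, true), (1, false), (0, true), (1, false), (1, false), (0, true), (1, false), (1, false), (3, true), (1, true), (1, true), (0, true), (1, true), (1, true), (0, true), (1, true), (0, true), (1, true)],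
    [(0, true), (1, false), (0, true), (1, false), (1, false), (0, true), (1, false), (0, true), (4, true), (0, true), (1, true), (0, true), (1, true), (1, true), (0, true), (1, true), (0, true), (0, true), (1, false), (0, true), (1, true), (3, true), (1, false), (0, true), (1, true), (0, true), (1, false), (1, false), (0, true), (1, false), (0, true), (1, false), (1, false), (0, true), (1, false), (0, true), (4, true), (0, true), (1, true), (0, true), (1, true), (1, true), (0, true), (1, true), (0, true), (1, true), (1, true)],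
    [(1, false), (0, true), (1, false), (0, true), (1, false), (0, true), (1, false), (0, true), (4, true), (0, true), (1, true), (0, true), (1, true), (0, true), (1, true), (0, true), (1, true), (0, true), (1, false), (0, true), (1, false), (1, false), (0, true), (1, false), (0, true), (4, true), (0, true), (1, true), (0, true), (1, true), (1, true), (0, true), (1, true), (0, true), (1, false), (0, true), (1, false), (0, true), (1, false), (1, false), (3, true), (1, true), (1, true), (0, true), (1, true), (0, true), (1, true)],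
    [(0, true), (1, false), (1, false), (0, true), (4, true), (0, true), (1, true), (1, true), (0, true), (1, true), (0, true), (1, false), (1, false), (0, true), (1, true), (3, true), (1, false), (0, true), (1, true), (1, true), (0, true), (1, false), (0, true), (1, false), (1, false), (0, true), (1, false), (0, true), (1, false), (1, false), (0, true), (1, false), (1, false), (0, true), (4, true), (0, true), (1, true), (1, true), (0, true), (1, true), (1, true), (0, true), (1, true), (0, true), (1, true), (1, true), (0, true)],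
    [(0, true), (1, true), (0, true), (1, false), (1, false), (3, true), (1, true), (1, true), (0, true), (1, false), (0, true), (0, true), (1, true), (0, true), (1, false), (0, true), (1, false), (0, true), (4, true), (0, true), (1, true), (0, true), (1, true), (0, true), (1, false), (0, true), (1, true), (0, true), (1, false), (0, true), (1, true), (0, true), (1, false), (0, true), (1, false), (0, true), (4, true), (0, true), (1, true), (0, true), (1, true), (0, true), (1, false), (0, true), (1, true), (0, true), (1, false)],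
    [(1, false), (0, true), (4, true), (0, true), (1, true), (1, false), (0, true), (1, false), (0, true), (1, false), (1, false), (0, true), (1, false), (1, false), (0, true), (4, true), (0, true), (1, true), (1, true), (0, true), (1, true), (1, true), (0, true), (1, true), (0, true), (1, true), (1, false), (1, false), (0, true), (1, false), (1, false), (0, true), (1, false), (0, true), (1, false), (1, false), (3, true), (1, true), (1, true), (0, true), (1, true), (0, true), (1, true), (1, true), (0, true), (1, true), (1, true)],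
    [(1, false), (0, true), (1, true), (0, true), (1, true), (3, true), (1, false), (0, true), (1, false), (0, true), (1, true), (0, true), (1, false), (0, true), (1, false), (0, true), (1, false), (0, true), (4, true), (0, true), (1, true), (0, true), (1, true), (0, true), (1, true), (0, true), (1, false), (1, false), (0, true), (1, false), (0, true), (1, false), (0, true), (1, false), (0, true), (4, true), (0, true), (1, true), (0, true), (1, true), (0, true), (1, true), (0, true), (1, true), (1, true)],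
    [(1, true), (0, true), (1, false), (0, true), (4, true), (0, true), (1, true), (0, true), (1, false), (0, true), (1, false), (0, true), (1, false), (1, false), (0, true), (1, false), (1, false), (3, true), (1, true), (1, true), (0, true), (1, true), (1, true), (0, true), (1, true), (0, true), (0, true), (1, false), (0, true), (1, false), (1, false), (0, true), (1, false), (1, false), (0, true), (4, true), (0, true), (1, true), (1, true), (0, true), (1, true), (1, true), (0, true), (1, true), (0, true)],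
    [(0, true), (1, false), (0, true), (1, false), (1, false), (3, true), (1, true), (1, true), (0, true), (1, true), (0, true), (0, true), (1, false), (0, true), (1, false), (0, true), (1, false), (0, true), (4, true), (0, true), (1, true), (0, true), (1, true), (0, true), (1, true), (0, true), (1, true), (0, true), (1, false), (0, true), (1, false), (1, false), (0, true), (1, false), (0, true), (4, true), (0, true), (1, true), (0, true), (1, true), (1, true), (0, true), (1, true), (0, true), (1, false)],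
    [(1, false), (1, false), (0, true), (1, true), (3, true), (1, false), (0, true), (1, true), (1, true), (1, true), (0, true), (1, false), (0, true), (1, false), (1, false), (0, true), (1, false), (0, true), (4, true), (0, true), (1, true), (0, true), (1, true), (1, true), (0, true), (1, true), (0, true), (1, false), (1, false), (1, false), (0, true), (1, false), (1, false), (0, true), (1, false), (0, true), (4, true), (0, true), (1, true), (0, true), (1, true), (1, true), (0, true), (1, true), (1, true)],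
    [(1, false), (0, true), (1, false), (0, true), (1, false), (0, true), (1, false), (0, true), (4, true), (0, true), (1, true), (0, true), (1, true), (0, true), (1, true), (0, true), (1, true), (0, true), (1, true), (0, true), (1, true), (3, true), (1, false), (0, true), (1, false), (0, true), (1, true), (0, true), (1, false), (0, true), (1, false), (0, true), (1, false), (0, true), (4, true), (0, true), (1, true), (0, true), (1, true), (0, true), (1, true), (0, true), (1, false)],
    [(1, true), (0, true), (1, false), (1, false), (3, true), (1, true), (1, true), (0, true), (1, false), (1, true), (0, true), (1, false), (0, true), (1, false), (0, true), (4, true), (0, true), (1, true), (0, true), (1, true), (0, true), (1, false), (1, true), (0, true), (1, false), (0, true), (1, true), (0, true), (1, false), (0, true), (1, false), (0, true), (4, true), (0, true), (1, true), (0, true), (1, true), (0, true), (1, false), (0, true), (1, true), (0, true), (1, false)],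
    [(0, true), (1, false), (0, true), (1, true), (0, true), (1, true), (3, true), (1, false), (0, true), (1, false), (0, true), (1, true), (0, true), (1, false), (1, false), (0, true), (1, false), (0, true), (4, true), (0, true), (1, true), (0, true), (1, true), (1, true), (0, true), (1, false), (1, false), (0, true), (1, false), (1, false), (0, true), (1, false), (0, true), (4, true), (0, true), (1, true), (0, true), (1, true), (1, true), (0, true), (1, true), (1, true), (0, true)],
    [(1, false), (0, true), (1, false), (1, false), (0, true), (1, false), (0, true), (4, true), (0, true), (1, true), (0, true), (1, true), (1, true), (0, true), (1, true), (1, false), (0, true), (1, true), (3, true), (1, false), (0, true), (1, true), (1, false), (1, false), (0, true), (1, false), (0, true), (1, false), (1, false), (0, true), (1, false), (0, true), (4, true), (0, true), (1, true), (0, true), (1, true), (1, true), (0, true), (1, true), (0, true), (1, true), (1, true)],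
    [(1, false), (0, true), (1, false), (1, false), (0, true), (4, true), (0, true), (1, true), (1, true), (0, true), (1, true), (0, true), (1, false), (1, false), (0, true), (1, true), (3, true), (1, false), (0, true), (1, true), (1, true), (0, true), (0, true), (1, false), (1, false), (0, true), (1, false), (0, true), (1, false), (0, true), (1, false), (0, true), (4, true), (0, true), (1, true), (0, true), (1, true), (0, true), (1, true), (0, true), (1, true), (1, true), (0, true)],
    [(0, true), (1, true), (0, true), (1, false), (0, true), (4, true), (0, true), (1, true), (0, true), (1, false), (0, true), (1, false), (0, true), (1, false), (1, false), (0, true), (1, false), (1, false), (3, true), (1, true), (1, true), (0, true), (1, true), (1, true), (0, true), (1, true), (1, false), (0, true), (1, false), (1, false), (0, true), (1, false), (1, false), (0, true), (4, true), (0, true), (1, true), (1, true), (0, true), (1, true), (1, true), (0, true), (1, true)],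
    [(1, false), (0, true), (1, false), (0, true), (1, false), (1, false), (0, true), (4, true), (0, true), (1, true), (1, true), (0, true), (1, true), (0, true), (1, true), (1, false), (0, true), (1, false), (1, false), (0, true), (1, false), (0, true), (4, true), (0, true), (1, true), (0, true), (1, true), (1, true), (0, true), (1, true), (1, false), (0, true), (1, false), (0, true), (1, false), (1, false), (3, true), (1, true), (1, true), (0, true), (1, true), (0, true), (1, true)],
    [(1, false), (0, true), (1, false), (1, false), (3, true), (1, true), (1, true), (0, true), (1, true), (1, false), (0, true), (1, false), (0, true), (1, false), (0, true), (4, true), (0, true), (1, true), (0, true), (1, true), (0, true), (1, true), (1, false), (0, true), (1, false), (0, true), (1, true), (0, true), (1, false), (0, true), (1, false), (0, true), (4, true), (0, true), (1, true), (0, true), (1, true), (0, true), (1, false), (0, true), (1, true), (0, true), (1, true)],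
    [(0, true), (1, true), (0, true), (1, true), (0, true), (1, true), (0, true), (1, true), (0, true), (1, true), (0, true), (1, true), (0, true), (1, true), (0, true), (1, true), (0, true), (1, true), (0, true), (1, true), (0, true), (1, true), (0, true), (1, true), (0, true), (1, true), (0, true), (1, true), (0, true), (1, true), (0, true), (1, true), (0, true), (1, true), (0, true), (1, true), (0, true), (1, true), (0, true), (1, true), (0, true), (1, true)],
    [(1, false), (0, true), (1, true), (0, true), (1, true), (3, true), (1, false), (0, true), (1, false), (0, true), (1, true), (0, true), (1, false), (1, false), (0, true), (1, false), (0, true), (4, true), (0, true), (1, true), (0, true), (1, true), (1, true), (0, true), (1, false), (1, false), (0, true), (1, false), (1, false), (0, true), (1, false), (0, true), (4, true), (0, true), (1, true), (0, true), (1, true), (1, true), (0, true), (1, true), (1, true)],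
    [(0, true), (1, false), (0, true), (1, false), (1, false), (0, true), (4, true), (0, true), (1, true), (1, true), (0, true), (1, true), (0, true), (1, false), (1, false), (0, true), (1, true), (3, true), (1, false), (0, true), (1, true), (1, true), (1, false), (1, false), (0, true), (1, false), (0, true), (1, false), (0, true), (1, false), (0, true), (4, true), (0, true), (1, true), (0, true), (1, true), (0, true), (1, true), (0, true), (1, true), (1, true)],
    [(0, true), (4, true), (0, true), (1, false), (0, true), (1, false), (1, false), (0, true), (1, false), (0, true), (1, false), (1, false), (3, true), (1, true), (1, true), (0, true), (1, true), (0, true), (1, true), (1, true), (0, true), (1, true), (0, true), (1, false), (0, true), (1, false), (1, false), (0, true), (1, false), (1, false), (0, true), (4, true), (0, true), (1, true), (1, true), (0, true), (1, true), (1, true), (0, true), (1, true), (0, true)],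
    [(0, true), (1, false), (1, false), (0, true), (1, false), (0, true), (1, false), (1, false), (3, true), (1, true), (1, true), (0, true), (1, true), (0, true), (1, true), (1, true), (0, true), (1, true), (0, true), (4, true), (0, true), (1, false), (0, true), (1, false), (1, false), (0, true), (1, false), (1, false), (0, true), (1, false), (0, true), (4, true), (0, true), (1, true), (0, true), (1, true), (1, true), (0, true), (1, true), (1, true), (0, true)],
    [(1, false), (1, false), (0, true), (1, false), (0, true), (1, false), (1, false), (3, true), (1, true), (1, true), (0, true), (1, true), (0, true), (1, true), (1, true), (0, true), (1, true), (0, true), (4, true), (0, true), (1, false), (0, true), (1, false), (1, false), (0, true), (1, false), (1, false), (0, true), (1, false), (0, true), (4, true), (0, true), (1, true), (0, true), (1, true), (1, true), (0, true), (1, true), (1, true)],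
    [(0, true), (1, true), (0, true), (1, false), (0, true), (4, true), (0, true), (1, true), (0, true), (1, false), (0, true), (0, true), (1, false), (1, false), (0, true), (1, false), (1, false), (0, true), (4, true), (0, true), (1, true), (1, true), (0, true), (1, true), (1, true), (0, true), (0, true), (1, false), (1, false), (0, true), (1, false), (1, false), (3, true), (1, true), (1, true), (0, true), (1, true), (1, true), (0, true)],
    [(4, true), (0, true), (1, false), (0, true), (1, false), (1, false), (0, true), (1, false), (0, true), (1, false), (1, false), (3, true), (1, true), (1, true), (0, true), (1, true), (0, true), (1, true), (1, true), (0, true), (1, true), (0, true), (1, false), (0, true), (1, false), (1, false), (0, true), (1, false), (1, false), (0, true), (4, true), (0, true), (1, true), (1, true), (0, true), (1, true), (1, true), (0, true), (1, true)],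
    [(1, false), (0, true), (1, false), (1, false), (0, true), (1, false), (0, true), (4, true), (0, true), (1, true), (0, true), (1, true), (1, true), (0, true), (1, true), (0, true), (1, true), (0, true), (1, true), (3, true), (1, false), (0, true), (1, false), (0, true), (1, true), (0, true), (1, false), (1, false), (0, true), (1, false), (0, true), (4, true), (0, true), (1, true), (0, true), (1, true), (1, true), (0, true), (1, false)],
    [(0, true), (3, true), (0, true), (0, true), (1, true), (0, true), (1, false), (0, true), (4, true), (0, true), (1, true), (0, true), (1, false), (0, true), (0, true), (1, false), (0, true), (1, false), (0, true), (1, false), (0, true), (1, false), (1, false), (0, true), (1, false), (0, true), (4, true), (0, true), (1, true), (0, true), (1, true), (1, true), (0, true), (1, true), (0, true), (1, true), (0, true), (1, true), (0, true)],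
    [(0, true), (1, false), (0, true), (1, false), (1, false), (0, true), (1, false), (0, true), (4, true), (0, true), (1, true), (0, true), (1, true), (1, true), (0, true), (1, true), (0, true), (1, true), (0, true), (1, true), (3, true), (1, false), (0, true), (1, false), (1, true), (0, true), (1, false), (1, false), (0, true), (1, false), (0, true), (4, true), (0, true), (1, true), (0, true), (1, true), (1, true), (0, true), (1, false)],
    [(1, false), (0, true), (1, false), (0, true), (1, false), (1, false), (0, true), (4, true), (0, true), (1, true), (1, true), (0, true), (1, true), (0, true), (1, true), (1, true), (0, true), (1, true), (3, true), (1, false), (0, true), (1, false), (1, true), (0, true), (1, false), (0, true), (1, false), (0, true), (1, false), (0, true), (4, true), (0, true), (1, true), (0, true), (1, true), (0, true), (1, true), (0, true), (1, false)],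
    [(1, false), (0, true), (1, true), (0, true), (4, true), (0, true), (1, false), (0, true), (1, true), (1, true), (0, true), (1, false), (0, true), (1, false), (1, false), (3, true), (1, true), (1, true), (0, true), (1, true), (0, true), (1, false), (1, true), (0, true), (1, false), (1, false), (0, true), (1, false), (0, true), (4, true), (0, true), (1, true), (0, true), (1, true), (1, true), (0, true), (1, false)],
    [(0, true), (1, true), (3, true), (1, false), (0, true), (0, true), (1, false), (1, false), (0, true), (1, false), (0, true), (4, true), (0, true), (1, true), (0, true), (1, true), (1, true), (0, true), (1, false), (0, true), (1, false), (0, true), (1, false), (1, false), (0, true), (1, false), (0, true), (4, true), (0, true), (1, true), (0, true), (1, true), (1, true), (0, true), (1, true), (0, true), (1, true)],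
    [(0, true), (1, false), (1, false), (3, true), (1, true), (1, true), (0, true), (0, true), (1, false), (0, true), (1, false), (0, true), (4, true), (0, true), (1, true), (0, true), (1, true), (0, true), (0, true), (1, false), (0, true), (1, true), (0, true), (1, false), (0, true), (1, false), (0, true), (4, true), (0, true), (1, true), (0, true), (1, true), (0, true), (1, false), (0, true), (1, true), (0, true)],
    [(0, true), (1, false), (0, true), (1, false), (1, false), (3, true), (1, true), (1, true), (0, true), (1, true), (0, true), (0, true), (1, false), (1, false), (0, true), (1, false), (0, true), (4, true), (0, true), (1, true), (0, true), (1, true), (1, true), (0, true), (0, true), (1, false), (0, true), (1, false), (1, false), (0, true), (4, true), (0, true), (1, true), (1, true), (0, true), (1, true), (0, true)],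
    [(1, true), (3, true), (1, false), (1, false), (1, false), (0, true), (1, false), (0, true), (4, true), (0, true), (1, true), (0, true), (1, true), (1, true), (0, true), (1, false), (0, true), (1, false), (0, true), (1, false), (1, false), (0, true), (1, false), (0, true), (4, true), (0, true), (1, true), (0, true), (1, true), (1, true), (0, true), (1, true), (0, true), (1, true), (0, true)],
    [(2, true), (0, true), (1, false), (0, true), (1, false), (1, false), (0, true), (1, false), (0, true), (1, false), (1, false), (3, true), (1, true), (1, true), (0, true), (1, true), (0, true), (1, true), (1, true), (0, true), (1, true), (0, true), (0, true), (1, false), (1, false), (0, true), (1, false), (1, false), (3, true), (1, true), (1, true), (0, true), (1, true), (1, true), (0, true)],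
    [(2, true), (1, false), (0, true), (1, true), (0, true), (1, false), (1, false), (3, true), (1, true), (1, true), (0, true), (1, false), (0, true), (1, true), (1, false), (1, false), (0, true), (1, false), (0, true), (1, false), (1, false), (0, true), (1, false), (1, false), (3, true), (1, true), (1, true), (0, true), (1, true), (1, true), (0, true), (1, true), (0, true), (1, true), (1, true)],
    [(1, false), (0, true), (1, false), (0, true), (1, false), (1, false), (0, true), (4, true), (0, true), (1, true), (1, true), (0, true), (1, true), (0, true), (1, true), (1, false), (0, true), (1, true), (0, true), (4, true), (0, true), (1, false), (0, true), (1, true), (0, true), (1, false), (0, true), (1, true), (3, true), (1, false), (0, true), (1, true), (0, true)],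
    [(1, true), (0, true), (1, false), (0, true), (4, true), (0, true), (1, true), (0, true), (1, false), (1, false), (1, false), (0, true), (1, false), (1, false), (0, true), (4, true), (0, true), (1, true), (1, true), (0, true), (1, true), (1, true), (1, false), (1, false), (0, true), (1, false), (1, false), (3, true), (1, true), (1, true), (0, true), (1, true), (1, true)],
    [(2, true), (0, true), (1, false), (0, true), (1, false), (0, true), (1, false), (0, true), (1, true), (3, true), (1, false), (0, true), (1, true), (0, true), (1, true), (0, true), (1, true), (0, true), (1, false), (0, true), (1, false), (1, false), (0, true), (1, false), (1, false), (3, true), (1, true), (1, true), (0, true), (1, true), (1, true), (0, true), (1, true)],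
    [(1, false), (0, true), (1, false), (0, true), (1, false), (0, true), (1, false), (0, true), (4, true), (0, true), (1, true), (0, true), (1, true), (0, true), (1, true), (0, true), (1, true), (1, false), (0, true), (1, true), (0, true), (4, true), (0, true), (1, false), (0, true), (1, true), (1, false), (0, true), (1, true), (3, true), (1, false), (0, true), (1, true)],
    [(2, true), (0, true), (1, false), (0, true), (1, false), (1, false), (0, true), (1, false), (1, false), (3, true), (1, true), (1, true), (0, true), (1, true), (1, true), (0, true), (1, true), (0, true), (1, false), (0, true), (1, false), (0, true), (1, false), (0, true), (1, true), (3, true), (1, false), (0, true), (1, true), (0, true), (1, true), (0, true), (1, true)],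
    [(3, true), (1, true), (0, true), (1, false), (0, true), (4, true), (0, true), (1, true), (0, true), (1, false), (1, false), (0, true), (1, false), (0, true), (1, false), (0, true), (1, false), (1, false), (0, true), (1, false), (0, true), (4, true), (0, true), (1, true), (0, true), (1, true), (1, true), (0, true), (1, true), (0, true), (1, true), (0, true), (1, true)],
    [(4, true), (0, true), (1, false), (0, true), (1, false), (0, true), (1, false), (0, true), (1, true), (3, true), (1, false), (0, true), (1, true), (0, true), (1, true), (0, true), (1, true), (0, true), (0, true), (1, false), (1, false), (0, true), (1, false), (1, false), (0, true), (4, true), (0, true), (1, true), (1, true), (0, true), (1, true), (1, true), (0, true)],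
    [(0, true), (4, true), (0, true), (1, false), (1, false), (0, true), (1, false), (1, false), (0, true), (4, true), (0, true), (1, true), (1, true), (0, true), (1, true), (1, true), (1, false), (0, true), (1, false), (0, true), (1, false), (0, true), (1, true), (3, true), (1, false), (0, true), (1, true), (0, true), (1, true), (0, true), (1, true)],
    [(2, true), (1, false), (1, false), (0, true), (1, false), (1, false), (0, true), (1, false), (0, true), (1, false), (1, false), (3, true), (1, true), (1, true), (0, true), (1, true), (0, true), (1, true), (1, true), (0, true), (1, true), (1, true), (1, true), (0, true), (1, false), (1, false), (3, true), (1, true), (1, true), (0, true), (1, false)],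
    [(2, true), (1, false), (0, true), (1, false), (1, false), (0, true), (1, false), (0, true), (1, false), (1, false), (3, true), (1, true), (1, true), (0, true), (1, true), (0, true), (1, true), (1, true), (0, true), (1, true), (1, false), (1, false), (0, true), (1, false), (1, false), (3, true), (1, true), (1, true), (0, true), (1, true), (1, true)],
    [(1, false), (1, false), (3, true), (1, true), (1, true), (1, false), (0, true), (1, false), (0, true), (4, true), (0, true), (1, true), (0, true), (1, true), (1, false), (0, true), (1, true), (0, true), (1, false), (0, true), (1, false), (0, true), (4, true), (0, true), (1, true), (0, true), (1, true), (0, true), (1, false), (0, true), (1, true)],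
    [(2, true), (0, true), (1, true), (0, true), (1, false), (1, false), (3, true), (1, true), (1, true), (0, true), (1, false), (0, true), (1, false), (0, true), (1, false), (0, true), (1, false), (1, false), (0, true), (1, false), (1, false), (3, true), (1, true), (1, true), (0, true), (1, true), (1, true), (0, true), (1, true), (0, true), (1, true)],
    [(1, false), (0, true), (1, false), (1, false), (3, true), (1, true), (1, true), (0, true), (1, true), (1, false), (1, false), (0, true), (1, false), (0, true), (4, true), (0, true), (1, true), (0, true), (1, true), (1, true), (1, false), (0, true), (1, false), (1, false), (0, true), (4, true), (0, true), (1, true), (1, true), (0, true), (1, true)],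
    [(1, false), (0, true), (1, false), (0, true), (1, true), (3, true), (1, false), (0, true), (1, true), (0, true), (1, true), (0, true), (1, true), (0, true), (4, true), (0, true), (1, false), (0, true), (0, true), (1, false), (0, true), (1, false), (1, false), (0, true), (4, true), (0, true), (1, true), (1, true), (0, true), (1, true), (0, true)],
    [(0, true), (1, false), (0, true), (1, false), (0, true), (1, true), (3, true), (1, false), (0, true), (1, true), (0, true), (1, true), (0, true), (1, true), (0, true), (4, true), (0, true), (1, false), (1, false), (0, true), (1, false), (1, false), (0, true), (4, true), (0, true), (1, true), (1, true), (0, true), (1, true)],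
    [(1, false), (0, true), (1, true), (0, true), (1, false), (1, false), (3, true), (1, true), (1, true), (0, true), (1, false), (0, true), (1, true), (1, false), (1, false), (0, true), (4, true), (0, true), (1, true), (1, true), (0, true), (1, false), (1, false), (0, true), (4, true), (0, true), (1, true), (1, true), (0, true)],
    [(2, true), (0, true), (1, false), (0, true), (1, false), (0, true), (1, true), (3, true), (1, false), (0, true), (1, true), (0, true), (1, true), (0, true), (0, true), (1, false), (0, true), (1, true), (0, true), (1, true), (3, true), (1, false), (0, true), (1, false), (0, true), (1, true), (0, true)],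
    [(2, true), (0, true), (1, false), (0, true), (1, false), (1, false), (3, true), (1, true), (1, true), (0, true), (1, true), (0, true), (1, false), (1, false), (0, true), (1, false), (0, true), (1, false), (1, false), (3, true), (1, true), (1, true), (0, true), (1, true), (0, true), (1, true), (1, true)],
    [(2, true), (1, false), (0, true), (1, false), (1, false), (3, true), (1, true), (1, true), (0, true), (1, true), (0, true), (1, false), (1, false), (0, true), (1, false), (0, true), (1, false), (1, false), (3, true), (1, true), (1, true), (0, true), (1, true), (0, true), (1, true), (1, true), (0, true)],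
    [(2, true), (1, true), (0, true), (1, false), (0, true), (1, false), (1, false), (3, true), (1, true), (1, true), (0, true), (1, true), (0, true), (1, false), (1, false), (0, true), (1, false), (0, true), (1, false), (1, false), (3, true), (1, true), (1, true), (0, true), (1, true), (0, true), (1, true)],
    [(0, true), (1, true), (3, true), (1, false), (0, true), (0, true), (1, true), (0, true), (4, true), (0, true), (1, false), (0, true), (0, true), (1, false), (0, true), (1, false), (0, true), (1, false), (0, true), (4, true), (0, true), (1, true), (0, true), (1, true), (0, true), (1, true), (0, true)],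
    [(1, false), (0, true), (4, true), (0, true), (1, true), (0, true), (1, true), (0, true), (1, false), (1, false), (3, true), (1, true), (1, true), (0, true), (1, false), (0, true), (1, true), (0, true), (1, false), (1, false), (0, true), (4, true), (0, true), (1, true), (1, true), (0, true), (1, false)],
    [(2, true), (0, true), (1, false), (1, false), (3, true), (1, true), (1, true), (0, true), (1, true), (0, true), (1, false), (1, false), (0, true), (1, false), (0, true), (1, false), (1, false), (3, true), (1, true), (1, true), (0, true), (1, true), (0, true), (1, true), (1, true), (0, true), (1, false)],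
    [(0, true), (1, false), (0, true), (4, true), (0, true), (1, true), (0, true), (1, true), (0, true), (1, false), (1, false), (3, true), (1, true), (1, true), (0, true), (1, false), (1, true), (0, true), (1, false), (1, false), (0, true), (4, true), (0, true), (1, true), (1, true), (0, true), (1, false)],
    [(0, true), (1, false), (1, false), (3, true), (1, true), (1, true), (0, true), (1, false), (0, true), (1, false), (0, true), (4, true), (0, true), (1, true), (0, true), (1, true), (0, true), (1, false), (1, false), (0, true), (4, true), (0, true), (1, true), (1, true), (0, true)],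
    [(0, true), (1, false), (0, true), (4, true), (0, true), (1, true), (0, true), (1, false), (3, true), (1, true), (0, true), (1, true), (0, true), (1, false), (0, true), (1, false), (0, true), (4, true), (0, true), (1, true), (0, true), (1, true), (0, true), (1, false), (0, true)],
    [(0, true), (1, false), (1, false), (0, true), (1, false), (0, true), (1, true), (0, true), (1, false), (1, false), (0, true), (4, true), (0, true), (1, true), (1, true), (0, true), (1, false), (0, true), (1, true), (0, true), (1, true), (1, true), (0, true), (4, true)],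
    [(0, true), (1, false), (1, false), (0, true), (1, true), (0, true), (1, false), (1, false), (0, true), (1, true), (0, true), (4, true), (0, true), (1, false), (0, true), (1, true), (1, true), (0, true), (1, false), (0, true), (1, true), (1, true), (0, true), (4, true)],
    [(2, true), (1, false), (0, true), (1, false), (0, true), (1, true), (3, true), (1, false), (0, true), (1, true), (0, true), (1, true), (1, false), (0, true), (1, true), (0, true), (1, true), (3, true), (1, false), (0, true), (1, false), (0, true), (1, true)],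
    [(1, false), (1, false), (3, true), (1, true), (1, true), (1, false), (1, false), (0, true), (4, true), (0, true), (1, true), (1, true), (0, true), (1, false), (0, true), (1, false), (0, true), (4, true), (0, true), (1, true), (0, true), (1, true), (0, true)],
    [(1, false), (0, true), (1, true), (0, true), (1, false), (1, false), (0, true), (1, false), (0, true), (1, true), (3, true), (1, false), (0, true), (1, true), (0, true), (1, true), (1, true), (0, true), (1, false), (0, true), (1, true), (3, true)],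
    [(1, false), (0, true), (1, false), (0, true), (1, false), (1, false), (0, true), (1, true), (0, true), (1, true), (3, true), (1, false), (0, true), (1, false), (0, true), (1, true), (1, true), (0, true), (1, true), (0, true), (1, true), (3, true)],
    [(1, false), (0, true), (4, true), (0, true), (1, true), (1, false), (3, true), (1, true), (1, true), (0, true), (1, false), (0, true), (1, false), (0, true), (4, true), (0, true), (1, true), (0, true), (1, true), (0, true), (1, false)],
    [(4, true), (0, true), (3, true), (0, true), (0, true), (1, false), (1, false), (0, true), (1, false), (0, true), (1, false), (0, true), (4, true), (0, true), (1, true), (0, true), (1, true), (0, true), (1, true), (1, true), (0, true)],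
    [(1, true), (3, true), (1, false), (1, true), (0, true), (4, true), (0, true), (1, false), (1, false), (0, true), (1, false), (0, true), (1, false), (0, true), (4, true), (0, true), (1, true), (0, true), (1, true), (0, true), (1, true)],
    [(0, true), (1, false), (0, true), (1, true), (0, true), (1, false), (0, true), (1, true), (0, true), (4, true), (0, true), (1, false), (0, true), (1, true), (0, true), (1, false), (0, true), (1, true), (0, true), (4, true)],
    [(2, true), (0, true), (3, true), (0, true), (0, true), (1, false), (0, true), (1, false), (1, false), (0, true), (1, true), (3, true), (1, false), (0, true), (1, true), (1, true), (0, true), (1, true), (0, true)],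
    [(2, true), (0, true), (1, true), (0, true), (1, true), (3, true), (1, false), (0, true), (1, false), (0, true), (0, true), (1, false), (0, true), (1, true), (3, true), (1, false), (0, true), (1, true), (0, true)],
    [(2, true), (1, false), (1, false), (3, true), (1, true), (1, true), (1, true), (0, true), (1, false), (1, false), (0, true), (1, true), (3, true), (1, false), (0, true), (1, true), (1, true), (0, true), (1, false)],
    [(0, true), (4, true), (0, true), (3, true), (1, false), (1, false), (0, true), (1, false), (0, true), (1, false), (0, true), (4, true), (0, true), (1, true), (0, true), (1, true), (0, true), (1, true), (1, true)],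
    [(2, true), (1, false), (3, true), (1, true), (1, false), (1, false), (0, true), (1, false), (1, false), (0, true), (1, true), (3, true), (1, false), (0, true), (1, true), (1, true), (0, true), (1, true), (1, true)],
    [(2, true), (1, true), (3, true), (1, false), (0, true), (1, false), (1, false), (0, true), (1, true), (3, true), (1, false), (0, true), (1, true), (1, true), (0, true)],
    [(2, true), (0, true), (1, true), (3, true), (1, false), (0, true), (1, false), (1, false), (0, true), (1, true), (3, true), (1, false), (0, true), (1, true), (1, true)],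
    [(2, true), (3, true), (1, false), (0, true), (1, false), (1, false), (0, true), (1, true), (3, true), (1, false), (0, true), (1, true), (1, true), (0, true), (1, true)],
    [(2, true), (1, false), (0, true), (1, true), (3, true), (1, false), (0, true), (1, true), (1, true), (0, true), (1, true), (3, true), (1, false), (0, true), (1, false)],
    [(0, true), (1, false), (0, true), (3, true), (0, true), (1, true), (0, true), (3, true)],
    [(1, true), (0, true), (1, false), (3, true), (1, true), (0, true), (1, false), (3, true)],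
    [(1, false), (4, true), (1, true), (4, true)],
    [(0, true), (2, true), (0, true), (2, true)],
    [(1, false), (2, true), (1, true), (2, true)],
    [(1, true), (1, true), (1, true), (1, true)],
    [(4, true), (4, true)],
    [(3, true), (3, true)],
    [(2, true), (2, true)],
    [(0, true), (0, true)]]

/-- The subgroup's generators. -/
def subWords : List (List (Fin 5 × Bool)) := [
    [(0, true)],
    [(1, true)]]

/-- The numbering of the generators. -/
def enc (b : Fin 5) : Nat := b.val

/-- The generator of a number. -/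
def dec (x : Nat) : Fin 5 × Bool := if x < 5 then (Fin.ofNat 5 x, true) else (Fin.ofNat 5 x, false)

end Cfsg.Agent.CosetCert.J4LineMem
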