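import Cfsg.Agent.CosetCert.J4LineMem.CheckLog
import Cfsg.Agent.CosetCert.MemberGroup

/-! Generated: the conclusion. -/

set_option maxRecDepth 100000

namespace Cfsg.Agent.CosetCert.J4LineMem

theorem mem_valid : data.MemValid where
  log := log_ok
  iv_iv := by decide +kernel
  iv_big := fun x hx => by
    change 10 ≤ x at hx
    show (if x < 5 then x + 5 else if x < 10 then x - 5 else x) = x
    split_ifs <;> omega
  pw := by decide +kernel
  letters := by decide +kernel
  K_small := by decide +kernel
  nR_le := by decide +kernel

theorem spells : Data.Spells data (wordRels relWords) (subWords.map FreeGroup.mk) enc dec relWords := by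
  apply spells_words_extra data
  · show ∀ b : Fin 5, _
    decide +kernel
  · decide +kernel
  · intro x hx
    left
    revert x
    decide +kernel
  · decide +kernel
  · decide +kernel

/-- The words shown to be relations. -/
def targets : List (List (Fin 5 × Bool)) := [
    [(2, true), (4, true), (0, true), (1, false), (0, true), (1, false), (0, true), (1, false), (0, true), (1, false), (1, false), (0, true), (1, false), (0, true), (4, true), (0, true), (1, true), (0, true), (1, true), (1, true), (0, true), (1, true), (0, true), (1, true), (0, true), (1, true), (0, true), (2, true), (1, true), (0, true), (4, true), (0, true), (1, false), (0, true), (1, false), (0, true), (1, false), (0, true), (1, false), (1, false), (0, true), (1, false), (0, true), (4, true), (0, true), (1, true), (0, true), (1, true), (1, true), (0, true), (1, true), (0, true), (1, true), (0, true), (2, true), (1, false), (0, true), (4, true), (0, true), (1, true), (0, true), (1, true), (0, true), (1, false), (0, true), (1, false), (0, true), (4, true), (0, true), (1, true), (0, true), (1, true), (0, true), (1, false), (0, true)]]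

/-- The paths of the targets in the log. -/
def paths : List (Nat × Nat) := [
    (75, 0xed4003b50c0ed4003b5080ed4003b5080ed4003b5100006e0001b00006a0001a00ed4a03f5400fd5803f6180fd900770701d77c0253d424596090810241fc09084023f7d0908280e20d0907d0241fe03889c24204092f9824006092a700e1be0386f024b9c09178824c3703b4f80ed3c038f680e3d8038f5824c2c0253c81d9ad0916482420a0388342421c090850241e00388400e20e0907d00e227090810241fc090840241d400b7d812eac04b92802318047a6c00f9a003e6011e98047340009c404723811d0a0471b8005a4)]

theorem walks_ok : (List.zip targets paths).all (fun p => Nat.beq
    (walk data.F data.iv data.K data.Nf p.2.1 p.2.2 0 (pack (p.1.map (Data.code data.iv enc))))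
    (stop 0 0)) = true := by decide +kernel

theorem targets_len : targets.length = paths.length := rfl

theorem target_mem : ∀ l ∈ targets, PresentedGroup.mk (wordRels relWords) (FreeGroup.mk l) ∈
    Data.sub (wordRels relWords) (subWords.map FreeGroup.mk) := by
  intro l hl
  obtain ⟨i, hi, rfl⟩ := List.mem_iff_getElem.1 hl
  have hm : (targets[i], paths[i]'(targets_len ▸ hi)) ∈ List.zip targets paths := by
    rw [List.mem_iff_getElem]
    exact ⟨i, by simpa [← targets_len] using hi, by simp⟩
  have h := List.all_eq_true.1 walks_ok _ hm
  rw [Nat.beq_eq] at h
  exact Data.mem_sub_of_path mem_valid spells _ _ _ h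

/-- In every group satisfying the relators the targets lie in the given subgroup. -/
theorem holds {G : Type*} [Group G] (f : Fin 5 → G)
    (hf : ∀ r ∈ relWords, FreeGroup.lift f (FreeGroup.mk r) = 1) :
    ∀ l ∈ targets, FreeGroup.lift f (FreeGroup.mk l) ∈
      Subgroup.closure {s | ∃ w ∈ subWords, FreeGroup.lift f (FreeGroup.mk w) = s} :=
  fun l hl => group_mem_of_mem_sub (target_mem l hl) f hf

end Cfsg.Agent.CosetCert.J4LineMem
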